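/-
Witness table for `SL₃(3)`: each normal form is a product of two conjugates of an element of order 13.
-/
import Mathlib

namespace Cfsg.Agent.Thompson3

open Matrix

/-- An element of order 13 of `SL₃(3)`. -/
def x13 : Matrix (Fin 3) (Fin 3) (ZMod 3) := !![0, 0, 1; 1, 0, 1; 0, 1, 0]

/-- A product of two conjugates of `x13`. -/
def Good3 (g : Matrix (Fin 3) (Fin 3) (ZMod 3)) : Prop :=
  ∃ u v : Matrix (Fin 3) (Fin 3) (ZMod 3), u.det = 1 ∧ v.det = 1 ∧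
    g = (u * x13 * u.adjugate) * (v * x13 * v.adjugate)

theorem table_cyclic : ∀ d f : ZMod 3, Good3 (!![0, 0, 1; 1, 0, d; 0, 1, f]) := by
  intro d f
  fin_cases d <;> fin_cases f
  · exact ⟨!![0, 0, 1; 0, 1, 0; 2, 0, 2], !![0, 0, 2; 2, 1, 0; 1, 0, 0], by decide, by decide, by decide⟩
  · exact ⟨!![0, 0, 1; 0, 1, 0; 2, 0, 1], !![0, 0, 2; 0, 1, 0; 1, 0, 1], by decide, by decide, by decide⟩
  · exact ⟨!![0, 0, 1; 0, 1, 0; 2, 1, 1], !![0, 0, 1; 2, 1, 1; 1, 1, 0], by decide, by decide, by decide⟩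
  · exact ⟨!![0, 0, 1; 0, 2, 0; 1, 0, 2], !![0, 0, 2; 1, 1, 2; 2, 1, 1], by decide, by decide, by decide⟩
  · exact ⟨!![0, 0, 1; 0, 1, 0; 2, 2, 2], !![0, 0, 2; 0, 1, 1; 1, 1, 1], by decide, by decide, by decide⟩
  · exact ⟨!![0, 0, 1; 0, 1, 0; 2, 0, 0], !![0, 0, 1; 1, 1, 2; 1, 2, 2], by decide, by decide, by decide⟩
  · exact ⟨!![0, 0, 1; 0, 1, 0; 2, 2, 0], !![0, 0, 2; 1, 1, 0; 1, 0, 2], by decide, by decide, by decide⟩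
  · exact ⟨!![0, 0, 1; 0, 1, 0; 2, 1, 2], !![0, 0, 2; 0, 1, 2; 1, 2, 1], by decide, by decide, by decide⟩
  · exact ⟨!![0, 0, 1; 0, 1, 1; 2, 1, 1], !![0, 0, 2; 0, 1, 2; 1, 0, 1], by decide, by decide, by decide⟩

theorem table_plane1 : ∀ y c d : ZMod 3, Good3 (!![0, 2, c; 1, y, d; 0, 0, 1]) := by
  intro y c d
  fin_cases y <;> fin_cases c <;> fin_cases d
  · exact ⟨!![0, 0, 1; 0, 1, 1; 2, 2, 1], !![0, 0, 1; 2, 1, 0; 2, 0, 2], by decide, by decide, by decide⟩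
  · exact ⟨!![0, 0, 1; 0, 2, 1; 1, 1, 0], !![0, 0, 2; 2, 2, 1; 2, 0, 0], by decide, by decide, by decide⟩
  · exact ⟨!![0, 0, 1; 0, 1, 1; 2, 1, 0], !![0, 0, 2; 1, 2, 0; 2, 0, 1], by decide, by decide, by decide⟩
  · exact ⟨!![0, 0, 1; 0, 1, 1; 2, 2, 0], !![0, 0, 2; 0, 1, 1; 1, 0, 2], by decide, by decide, by decide⟩
  · exact ⟨!![0, 0, 1; 0, 1, 0; 2, 1, 2], !![0, 0, 2; 2, 0, 1; 2, 1, 0], by decide, by decide, by decide⟩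
  · exact ⟨!![0, 0, 1; 0, 1, 1; 2, 0, 1], !![0, 0, 2; 0, 1, 0; 1, 2, 1], by decide, by decide, by decide⟩
  · exact ⟨!![0, 0, 1; 0, 1, 1; 2, 0, 0], !![0, 0, 2; 2, 1, 0; 0, 1, 0], by decide, by decide, by decide⟩
  · exact ⟨!![0, 0, 1; 0, 1, 2; 2, 2, 0], !![0, 0, 2; 2, 2, 2; 2, 0, 0], by decide, by decide, by decide⟩
  · exact ⟨!![0, 0, 1; 0, 1, 0; 2, 0, 2], !![0, 0, 1; 0, 1, 0; 2, 2, 2], by decide, by decide, by decide⟩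
  · exact ⟨!![0, 0, 1; 0, 1, 1; 2, 2, 2], !![0, 0, 1; 2, 1, 0; 1, 1, 2], by decide, by decide, by decide⟩
  · exact ⟨!![0, 0, 1; 0, 1, 1; 2, 0, 0], !![0, 0, 1; 2, 1, 0; 0, 2, 0], by decide, by decide, by decide⟩
  · exact ⟨!![0, 0, 1; 0, 2, 1; 1, 0, 1], !![0, 0, 1; 1, 1, 2; 2, 0, 1], by decide, by decide, by decide⟩
  · exact ⟨!![0, 0, 1; 0, 1, 1; 2, 2, 1], !![0, 0, 2; 1, 2, 2; 0, 2, 2], by decide, by decide, by decide⟩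
  · exact ⟨!![0, 0, 1; 0, 1, 0; 2, 0, 0], !![0, 0, 2; 2, 1, 0; 0, 1, 0], by decide, by decide, by decide⟩
  · exact ⟨!![0, 0, 1; 0, 1, 0; 2, 0, 1], !![0, 0, 2; 0, 1, 0; 1, 1, 1], by decide, by decide, by decide⟩
  · exact ⟨!![0, 0, 1; 0, 1, 1; 2, 2, 0], !![0, 0, 2; 1, 0, 0; 2, 2, 2], by decide, by decide, by decide⟩
  · exact ⟨!![0, 0, 1; 0, 2, 0; 1, 0, 1], !![0, 0, 2; 2, 1, 0; 2, 2, 0], by decide, by decide, by decide⟩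
  · exact ⟨!![0, 0, 1; 0, 1, 0; 2, 1, 2], !![0, 0, 1; 2, 0, 1; 1, 2, 0], by decide, by decide, by decide⟩
  · exact ⟨!![0, 0, 1; 0, 1, 1; 2, 0, 2], !![0, 0, 1; 2, 1, 0; 2, 0, 0], by decide, by decide, by decide⟩
  · exact ⟨!![0, 0, 1; 0, 1, 2; 2, 0, 0], !![0, 0, 2; 2, 1, 0; 0, 1, 0], by decide, by decide, by decide⟩
  · exact ⟨!![0, 0, 1; 0, 1, 1; 2, 0, 1], !![0, 0, 1; 2, 1, 0; 1, 1, 0], by decide, by decide, by decide⟩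
  · exact ⟨!![0, 0, 1; 0, 1, 0; 2, 2, 2], !![0, 0, 1; 1, 0, 1; 1, 1, 2], by decide, by decide, by decide⟩
  · exact ⟨!![0, 0, 1; 0, 1, 0; 2, 2, 0], !![0, 0, 2; 1, 1, 0; 2, 1, 2], by decide, by decide, by decide⟩
  · exact ⟨!![0, 0, 1; 0, 1, 0; 2, 0, 2], !![0, 0, 1; 1, 1, 2; 2, 0, 1], by decide, by decide, by decide⟩
  · exact ⟨!![0, 0, 1; 0, 1, 2; 2, 1, 0], !![0, 0, 1; 1, 0, 1; 2, 1, 1], by decide, by decide, by decide⟩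
  · exact ⟨!![0, 0, 1; 0, 1, 0; 2, 0, 0], !![0, 0, 1; 2, 1, 0; 0, 2, 0], by decide, by decide, by decide⟩
  · exact ⟨!![0, 0, 1; 0, 2, 0; 1, 2, 2], !![0, 0, 2; 1, 1, 0; 0, 2, 2], by decide, by decide, by decide⟩

theorem table_plane2 : ∀ y c d : ZMod 3, Good3 (!![0, 1, c; 1, y, d; 0, 0, 2]) := by
  intro y c d
  fin_cases y <;> fin_cases c <;> fin_cases d
  · exact ⟨!![0, 0, 1; 0, 2, 1; 1, 0, 0], !![0, 0, 1; 2, 1, 0; 0, 2, 0], by decide, by decide, by decide⟩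
  · exact ⟨!![0, 0, 1; 0, 2, 1; 1, 0, 1], !![0, 0, 1; 2, 1, 0; 1, 1, 0], by decide, by decide, by decide⟩
  · exact ⟨!![0, 0, 1; 0, 1, 1; 2, 0, 0], !![0, 0, 1; 1, 1, 2; 0, 1, 0], by decide, by decide, by decide⟩
  · exact ⟨!![0, 0, 1; 0, 1, 0; 2, 1, 2], !![0, 0, 2; 0, 1, 2; 1, 1, 2], by decide, by decide, by decide⟩
  · exact ⟨!![0, 0, 1; 0, 1, 0; 2, 0, 2], !![0, 0, 2; 0, 1, 0; 1, 2, 1], by decide, by decide, by decide⟩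
  · exact ⟨!![0, 0, 1; 0, 1, 0; 2, 0, 1], !![0, 0, 2; 2, 1, 0; 2, 2, 0], by decide, by decide, by decide⟩
  · exact ⟨!![0, 0, 1; 0, 2, 0; 1, 0, 2], !![0, 0, 1; 1, 1, 2; 2, 0, 1], by decide, by decide, by decide⟩
  · exact ⟨!![0, 0, 1; 0, 1, 0; 2, 2, 2], !![0, 0, 2; 1, 0, 1; 1, 2, 0], by decide, by decide, by decide⟩
  · exact ⟨!![0, 0, 1; 0, 1, 1; 2, 2, 1], !![0, 0, 1; 0, 2, 2; 1, 1, 0], by decide, by decide, by decide⟩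
  · exact ⟨!![0, 0, 1; 0, 1, 1; 2, 1, 0], !![0, 0, 1; 1, 1, 2; 0, 1, 2], by decide, by decide, by decide⟩
  · exact ⟨!![0, 0, 1; 0, 1, 1; 2, 1, 1], !![0, 0, 2; 2, 2, 1; 2, 0, 0], by decide, by decide, by decide⟩
  · exact ⟨!![0, 0, 1; 0, 1, 1; 2, 2, 0], !![0, 0, 2; 2, 2, 1; 0, 1, 1], by decide, by decide, by decide⟩
  · exact ⟨!![0, 0, 1; 0, 1, 1; 2, 1, 2], !![0, 0, 2; 2, 0, 0; 1, 1, 2], by decide, by decide, by decide⟩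
  · exact ⟨!![0, 0, 1; 0, 1, 2; 2, 1, 1], !![0, 0, 2; 1, 1, 1; 0, 2, 1], by decide, by decide, by decide⟩
  · exact ⟨!![0, 0, 1; 0, 1, 0; 2, 2, 2], !![0, 0, 1; 1, 0, 1; 2, 1, 0], by decide, by decide, by decide⟩
  · exact ⟨!![0, 0, 1; 0, 1, 2; 2, 0, 0], !![0, 0, 1; 1, 1, 2; 0, 1, 0], by decide, by decide, by decide⟩
  · exact ⟨!![0, 0, 1; 0, 1, 0; 2, 2, 0], !![0, 0, 1; 0, 2, 2; 1, 0, 0], by decide, by decide, by decide⟩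
  · exact ⟨!![0, 0, 1; 0, 1, 0; 2, 0, 0], !![0, 0, 2; 1, 1, 2; 0, 2, 0], by decide, by decide, by decide⟩
  · exact ⟨!![0, 0, 1; 0, 1, 1; 2, 0, 2], !![0, 0, 1; 1, 1, 2; 1, 2, 2], by decide, by decide, by decide⟩
  · exact ⟨!![0, 0, 1; 0, 1, 1; 2, 0, 1], !![0, 0, 1; 1, 1, 2; 2, 0, 1], by decide, by decide, by decide⟩
  · exact ⟨!![0, 0, 1; 0, 2, 1; 1, 0, 2], !![0, 0, 1; 2, 1, 0; 2, 0, 0], by decide, by decide, by decide⟩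
  · exact ⟨!![0, 0, 1; 0, 1, 1; 2, 0, 0], !![0, 0, 2; 1, 1, 2; 0, 2, 0], by decide, by decide, by decide⟩
  · exact ⟨!![0, 0, 1; 0, 1, 1; 2, 2, 1], !![0, 0, 1; 2, 2, 2; 0, 2, 2], by decide, by decide, by decide⟩
  · exact ⟨!![0, 0, 1; 0, 1, 0; 2, 0, 0], !![0, 0, 1; 1, 1, 2; 0, 1, 0], by decide, by decide, by decide⟩
  · exact ⟨!![0, 0, 1; 1, 0, 0; 2, 1, 2], !![0, 0, 2; 0, 1, 2; 1, 1, 2], by decide, by decide, by decide⟩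
  · exact ⟨!![0, 0, 1; 0, 1, 0; 2, 0, 1], !![0, 0, 1; 0, 1, 0; 2, 1, 2], by decide, by decide, by decide⟩
  · exact ⟨!![0, 0, 1; 0, 2, 0; 1, 1, 1], !![0, 0, 2; 2, 0, 1; 2, 1, 0], by decide, by decide, by decide⟩
end Cfsg.Agent.Thompson3
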