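/-
Thompson's conjecture for `PSL₃(q)`, `q > 2`, for non-identity elements.
-/
import Mathlib
import Cfsg.Agent.Lib.Thompson.Table3

namespace Cfsg.Agent.Thompson3

open Matrix

variable {F : Type*} [Field F]

/-- The matrix whose columns are three given vectors. -/
def cols (v z w : Fin 3 → F) : Matrix (Fin 3) (Fin 3) F := of fun i j => ![v, z, w] j i

theorem cols_mulVec (v z w c : Fin 3 → F) : cols v z w *ᵥ c = c 0 • v + c 1 • z + c 2 • w := by
  ext i
  simp [cols, mulVec, dotProduct, Fin.sum_univ_three, mul_comm]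

theorem mul_cols_col (A : Matrix (Fin 3) (Fin 3) F) (v z w : Fin 3 → F) (j : Fin 3) :
    (A * cols v z w).col j = A *ᵥ (![v, z, w] j) := by
  ext i
  simp [cols, Matrix.mul_apply, mulVec, dotProduct, Matrix.col]

theorem exists_not_mem_span (v u : Fin 3 → F) :
    ∃ w : Fin 3 → F, ∀ α β : F, w ≠ α • v + β • u := by
  by_contra h
  push Not at h
  have htop : (⊤ : Submodule F (Fin 3 → F)) ≤ Submodule.span F (Set.range ![v, u]) := by
    intro x _
    obtain ⟨α, β, hx⟩ := h x
    rw [hx]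
    exact add_mem (Submodule.smul_mem _ _ (Submodule.subset_span ⟨0, rfl⟩))
      (Submodule.smul_mem _ _ (Submodule.subset_span ⟨1, rfl⟩))
  have h1 := finrank_range_le_card (R := F) ![v, u]
  rw [Set.finrank, top_le_iff.1 htop] at h1
  simp at h1

theorem det_cols_ne_zero {v z w : Fin 3 → F}
    (h : ∀ a b c : F, a • v + b • z + c • w = 0 → a = 0 ∧ b = 0 ∧ c = 0) : (cols v z w).det ≠ 0 := by
  intro hd
  obtain ⟨c, hc, h0⟩ := exists_mulVec_eq_zero_iff.2 hd
  rw [cols_mulVec] at h0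
  obtain ⟨h1, h2, h3⟩ := h _ _ _ h0
  exact hc (by ext i; fin_cases i <;> assumption)

theorem nonscalar_moves {g : Matrix (Fin 3) (Fin 3) F} (hns : ∀ z : F, g ≠ scalar (Fin 3) z) :
    ∃ v : Fin 3 → F, ∀ a b : F, a • v + b • (g *ᵥ v) = 0 → a = 0 ∧ b = 0 := by
  by_contra h
  push Not at h
  have key : ∀ v : Fin 3 → F, v ≠ 0 → ∃ l : F, g *ᵥ v = l • v := by
    intro v hv
    obtain ⟨a, b, hab, hne⟩ := h v
    by_cases hb : b = 0
    · exfalso
      subst hb
      rw [zero_smul, add_zero, smul_eq_zero] at hab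
      exact hne (hab.resolve_right hv) rfl
    · refine ⟨-a / b, ?_⟩
      rw [add_comm, add_eq_zero_iff_eq_neg] at hab
      rw [← inv_smul_smul₀ hb (g *ᵥ v), hab, smul_neg, smul_smul, ← neg_smul]
      congr 1
      field_simp
  -- common eigenvalue
  obtain ⟨l0, hl0⟩ := key ![1, 0, 0] (by simp)
  obtain ⟨l1, hl1⟩ := key ![0, 1, 0] (by simp)
  obtain ⟨l2, hl2⟩ := key ![0, 0, 1] (by simp)
  obtain ⟨l, hl⟩ := key ![1, 1, 1] (by simp)
  refine hns l ?_
  have e0 := congrFun hl0
  have e1 := congrFun hl1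
  have e2 := congrFun hl2
  have e := congrFun hl
  have a00 := e0 0
  have a10 := e0 1
  have a20 := e0 2
  have a01 := e1 0
  have a11 := e1 1
  have a21 := e1 2
  have a02 := e2 0
  have a12 := e2 1
  have a22 := e2 2
  have s0 := e 0
  have s1 := e 1
  have s2 := e 2
  simp [mulVec, dotProduct, Fin.sum_univ_three] at a00 a10 a20 a01 a11 a21 a02 a12 a22 s0 s1 s2
  ext i j
  fin_cases i <;> fin_cases j <;> simp_all

/-- A conjugate of a non-scalar matrix has prescribed `(0,0)` entry 1 and prescribed leading 2-minor. -/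
theorem exists_conj {g : SpecialLinearGroup (Fin 3) F} (hns : ∀ z : F, g.1 ≠ scalar (Fin 3) z) (s : F) :
    ∃ P : Matrix (Fin 3) (Fin 3) F, P.det ≠ 0 ∧
      ∃ G : Matrix (Fin 3) (Fin 3) F, g.1 * P = P * G ∧ G 0 0 = 1 ∧ G 0 0 * G 1 1 - G 0 1 * G 1 0 = s := by
  obtain ⟨v, hv⟩ := nonscalar_moves hns
  set M := g.1.adjugate with hM
  have hMg : ∀ x, M *ᵥ (g.1 *ᵥ x) = x := by
    intro x; rw [mulVec_mulVec, adjugate_mul, g.2, one_smul, one_mulVec]
  have hgM : ∀ x, g.1 *ᵥ (M *ᵥ x) = x := by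
    intro x; rw [mulVec_mulVec, mul_adjugate, g.2, one_smul, one_mulVec]
  set u := g.1 *ᵥ v with hu
  -- `w` outside the plane of `v` and `u`, with `g⁻¹ w` outside that of `v` and `w`
  obtain ⟨w, hw, hMw⟩ : ∃ w, (∀ α β : F, w ≠ α • v + β • u) ∧ ∀ α l : F, M *ᵥ w ≠ α • v + l • w := by
    obtain ⟨w, hw⟩ := exists_not_mem_span v u
    by_contra h
    push Not at h
    obtain ⟨α, l, h1⟩ := h w hw
    obtain ⟨α', l', h2⟩ := h (w + u) (fun a b hab => hw a (b - 1) (by
      rw [sub_smul, one_smul, ← add_sub_assoc, eq_sub_iff_add_eq, hab]))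
    rw [mulVec_add, hu, hMg, h1] at h2
    have hl : l = l' := by
      by_contra hne
      have hd : (l - l') ≠ 0 := sub_ne_zero.2 hne
      refine hw ((α' - α - 1) / (l - l')) (l' / (l - l')) ?_
      have : (l - l') • w = (α' - α - 1) • v + l' • u := by
        rw [smul_add] at h2
        linear_combination (norm := module) h2
      rw [← inv_smul_smul₀ hd w, this, smul_add, smul_smul, smul_smul, div_eq_inv_mul, div_eq_inv_mul]
    subst hl
    have hl0 : l = 0 := (hv (α + 1 - α') (-l) (by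
      rw [smul_add] at h2
      linear_combination (norm := module) h2)).2 |> neg_eq_zero.1
    rw [hl0, zero_smul, add_zero] at h1
    refine hw 0 α ?_
    rw [zero_smul, zero_add, ← hgM w, h1, mulVec_smul]
  have hind : ∀ a b c : F, a • v + b • u + c • w = 0 → a = 0 ∧ b = 0 ∧ c = 0 := by
    intro a b c h
    have hc : c = 0 := by
      by_contra hc
      refine hw (-a / c) (-b / c) ?_
      have h' : c • w = (-a) • v + (-b) • u := by linear_combination (norm := module) h
      rw [← inv_smul_smul₀ hc w, h', smul_add, smul_smul, smul_smul, div_eq_inv_mul, div_eq_inv_mul]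
    subst hc
    rw [zero_smul, add_zero] at h
    exact ⟨(hv a b h).1, (hv a b h).2, rfl⟩
  have hd : (cols v u w).det ≠ 0 := det_cols_ne_zero hind
  set C := (cols v u w)⁻¹ *ᵥ (M *ᵥ w) with hC
  have hMw' : M *ᵥ w = C 0 • v + C 1 • u + C 2 • w := by
    rw [← cols_mulVec, hC, mulVec_mulVec, mul_nonsing_inv _ (isUnit_iff_ne_zero.2 hd), one_mulVec]
  have hB : C 1 ≠ 0 := by
    intro h
    rw [h, zero_smul, add_zero] at hMw'
    exact hMw _ _ hMw'
  set γ := (s - C 2) / C 1 with hγ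
  set z := u - v - γ • w with hz
  set P := cols v z w with hP
  have hPd : P.det ≠ 0 := by
    apply det_cols_ne_zero
    intro a b c h
    have := hind (a - b) b (c - b * γ) (by rw [hz] at h; linear_combination (norm := module) h)
    obtain ⟨h1, rfl, h3⟩ := this
    exact ⟨by linear_combination h1, rfl, by linear_combination h3⟩
  have hPu : IsUnit P.det := isUnit_iff_ne_zero.2 hPd
  refine ⟨P, hPd, P⁻¹ * g.1 * P, by rw [← mul_assoc, ← mul_assoc, mul_nonsing_inv _ hPu, one_mul], ?_⟩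
  set G := P⁻¹ * g.1 * P with hG
  have hdetG : G.det = 1 := by
    rw [hG, det_mul, det_mul, g.2, mul_one, det_nonsing_inv, Ring.inverse_mul_cancel _ hPu]
  have hinj : Function.Injective (P *ᵥ ·) := fun x y h => by
    simpa [mulVec_mulVec, nonsing_inv_mul _ hPu] using congrArg (P⁻¹ *ᵥ ·) h
  have h00 : G *ᵥ ![1, 0, 0] = ![1, 1, γ] := by
    apply hinj
    change P *ᵥ _ = P *ᵥ _
    rw [mulVec_mulVec, hG, ← mul_assoc, ← mul_assoc, mul_nonsing_inv _ hPu, one_mul, ← mulVec_mulVec,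
      hP, cols_mulVec, cols_mulVec]
    simp [← hu, hz]
    module
  have hadj : G.adjugate *ᵥ ![0, 0, 1] = ![C 0 + C 1, C 1, s] := by
    have hinjG : Function.Injective (fun x => P *ᵥ (G *ᵥ x)) := by
      refine hinj.comp fun x y h => ?_
      simpa [mulVec_mulVec, adjugate_mul, hdetG] using congrArg (G.adjugate *ᵥ ·) h
    apply hinjG
    change P *ᵥ (G *ᵥ (G.adjugate *ᵥ _)) = P *ᵥ (G *ᵥ _)
    rw [mulVec_mulVec _ G G.adjugate, mul_adjugate, hdetG, one_smul, one_mulVec]
    rw [mulVec_mulVec, hG, ← mul_assoc, ← mul_assoc, mul_nonsing_inv _ hPu, one_mul, ← mulVec_mulVec,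
      hP, cols_mulVec, cols_mulVec]
    simp only [cons_val_zero, cons_val_one, cons_val, zero_smul, zero_add, one_smul]
    calc w = g.1 *ᵥ (M *ᵥ w) := (hgM w).symm
      _ = _ := by
        congr 1
        rw [hMw', hz, show s = C 2 + C 1 * γ by rw [hγ]; field_simp; ring]
        module
  have e00 := congrFun h00 0
  have e22 := congrFun hadj 2
  simp [mulVec, dotProduct, Fin.sum_univ_three] at e00 e22
  refine ⟨e00, ?_⟩
  rw [← e22, adjugate_fin_three]
  simp

section
variable {R : Type*} [CommRing R] {ι : Type*} [Fintype ι] [DecidableEq ι]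

/-- Multiply a column to fix the determinant. -/
theorem exists_special_conj (D : Matrix (Fin 3) (Fin 3) F) (d : Fin 3 → F) (hD : D = diagonal d)
    (T : Matrix (Fin 3) (Fin 3) F) (hT : T.det ≠ 0) :
    ∃ T' : SpecialLinearGroup (Fin 3) F, T'.1 * D * T'.1.adjugate = T * D * T⁻¹ := by
  set e : Matrix (Fin 3) (Fin 3) F := diagonal ![(T.det)⁻¹, 1, 1] with he
  have hde : e.det = (T.det)⁻¹ := by simp [he, det_diagonal, Fin.prod_univ_three]
  have hdet : (T * e).det = 1 := by rw [det_mul, hde, mul_inv_cancel₀ hT]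
  refine ⟨⟨T * e, hdet⟩, ?_⟩
  have hinv : (T * e)⁻¹ = (T * e).adjugate := by
    rw [Matrix.inv_def, hdet, Ring.inverse_one, one_smul]
  change T * e * D * (T * e).adjugate = _
  have hed : e * D = D * e := by rw [he, hD, diagonal_mul_diagonal, diagonal_mul_diagonal]; congr 1; ext i; ring
  rw [← hinv, Matrix.mul_inv_rev, mul_assoc T e D, hed]
  simp only [← mul_assoc]
  rw [mul_nonsing_inv_cancel_right]
  rw [hde]
  exact isUnit_iff_ne_zero.2 (inv_ne_zero hT)

end

/-- Each non-scalar element of `SL₃` is a product of two conjugates of `diag (1, a, a⁻¹)`. -/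
theorem exists_two_conj (a : F) (ha0 : a ≠ 0) (ha1 : a ≠ 1) (ha2 : a * a ≠ 1)
    (x : SpecialLinearGroup (Fin 3) F) (hx : x.1 = diagonal ![1, a, a⁻¹])
    (g : SpecialLinearGroup (Fin 3) F) (hns : ∀ z : F, g.1 ≠ scalar (Fin 3) z) :
    ∃ u v : SpecialLinearGroup (Fin 3) F, g = (u * x * u⁻¹) * (v * x * v⁻¹) := by
  obtain ⟨P, hP, G, hgP, hG00, hG2⟩ := exists_conj hns (a * a)
  have hPu : IsUnit P.det := isUnit_iff_ne_zero.2 hP
  have hdet : G.det = 1 := by
    have := congrArg det hgP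
    rw [det_mul, det_mul, g.2, one_mul] at this
    exact mul_left_cancel₀ hP (by rw [mul_one]; exact this.symm)
  rw [hG00, one_mul] at hG2
  have h1a : (1 : F) - a ≠ 0 := sub_ne_zero.2 (Ne.symm ha1)
  have hia : (1 : F) - a⁻¹ ≠ 0 := sub_ne_zero.2 (fun h => ha1 (by simpa using (congrArg (·⁻¹) h).symm))
  have haa : a - a⁻¹ ≠ 0 := sub_ne_zero.2 (fun h => ha2 (by
    nth_rewrite 1 [h]; rw [inv_mul_cancel₀ ha0]))
  set l32 := (G 2 1 - G 2 0 * G 0 1) / a with hl32
  set u23 := (G 1 2 - G 1 0 * G 0 2) / a with hu23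
  set L : Matrix (Fin 3) (Fin 3) F := !![1, 0, 0; G 1 0, a, 0; G 2 0, l32, a⁻¹] with hL
  set U : Matrix (Fin 3) (Fin 3) F := !![1, G 0 1, G 0 2; 0, a, u23; 0, 0, a⁻¹] with hU
  have hLU : G = L * U := by
    have h22 : G 2 2 = G 2 0 * G 0 2 + l32 * u23 + a⁻¹ * a⁻¹ := by
      rw [det_fin_three, hG00] at hdet
      rw [hl32, hu23]
      field_simp
      linear_combination hdet + (G 0 2 * G 2 0 - G 2 2) * hG2
    ext i j
    fin_cases i <;> fin_cases j <;> simp [hL, hU, Matrix.mul_apply, Fin.sum_univ_three]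
    · exact hG00
    · linear_combination hG2
    · rw [hu23]; field_simp; ring
    · rw [hl32]; field_simp; ring
    · exact h22
  -- diagonalise the factors
  set p21 := G 1 0 / (1 - a) with hp21
  set p32 := l32 / (a - a⁻¹) with hp32
  set p31 := (G 2 0 + l32 * p21) / (1 - a⁻¹) with hp31
  set S : Matrix (Fin 3) (Fin 3) F := !![1, 0, 0; p21, 1, 0; p31, p32, 1] with hS
  set q12 := G 0 1 / (a - 1) with hq12
  set q23 := u23 / (a⁻¹ - a) with hq23
  set q13 := (G 0 2 + G 0 1 * q23) / (a⁻¹ - 1) with hq13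
  set T : Matrix (Fin 3) (Fin 3) F := !![1, q12, q13; 0, 1, q23; 0, 0, 1] with hT
  have hSd : S.det = 1 := by simp [hS, det_fin_three]
  have hTd : T.det = 1 := by simp [hT, det_fin_three]
  have hLS : L * S = S * x.1 := by
    have e1 : p21 * (1 - a) = G 1 0 := div_mul_cancel₀ _ h1a
    have e2 : p32 * (a - a⁻¹) = l32 := div_mul_cancel₀ _ haa
    have e3 : p31 * (1 - a⁻¹) = G 2 0 + l32 * p21 := div_mul_cancel₀ _ hia
    ext i j
    fin_cases i <;> fin_cases j <;> simp [hL, hS, hx, Matrix.mul_apply, Fin.sum_univ_three]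
    · linear_combination -e1
    · linear_combination -e3
    · linear_combination -e2
  have hUT : U * T = T * x.1 := by
    have e1 : q12 * (a - 1) = G 0 1 := div_mul_cancel₀ _ (sub_ne_zero.2 ha1)
    have e2 : q23 * (a⁻¹ - a) = u23 := div_mul_cancel₀ _ (sub_ne_zero.2 (sub_ne_zero.1 haa).symm)
    have e3 : q13 * (a⁻¹ - 1) = G 0 2 + G 0 1 * q23 := div_mul_cancel₀ _
      (sub_ne_zero.2 (sub_ne_zero.1 hia).symm)
    ext i j
    fin_cases i <;> fin_cases j <;> simp [hU, hT, hx, Matrix.mul_apply, Fin.sum_univ_three]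
    · linear_combination -e1
    · linear_combination -e3
    · linear_combination -e2
  have hSu : IsUnit S.det := by rw [hSd]; exact isUnit_one
  have hTu : IsUnit T.det := by rw [hTd]; exact isUnit_one
  obtain ⟨u, hu⟩ := exists_special_conj x.1 _ hx (P * S) (by rw [det_mul, hSd, mul_one]; exact hP)
  obtain ⟨v, hv⟩ := exists_special_conj x.1 _ hx (P * T) (by rw [det_mul, hTd, mul_one]; exact hP)
  refine ⟨u, v, Subtype.ext ?_⟩
  change g.1 = (u.1 * x.1 * u.1.adjugate) * (v.1 * x.1 * v.1.adjugate)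
  have hLe : S * x.1 * S⁻¹ = L := by rw [← hLS, mul_nonsing_inv_cancel_right _ _ hSu]
  have hUe : T * x.1 * T⁻¹ = U := by rw [← hUT, mul_nonsing_inv_cancel_right _ _ hTu]
  rw [hu, hv, Matrix.mul_inv_rev, Matrix.mul_inv_rev]
  calc g.1 = g.1 * P * P⁻¹ := (mul_nonsing_inv_cancel_right _ _ hPu).symm
    _ = P * L * (P⁻¹ * P) * U * P⁻¹ := by
      rw [hgP, hLU, nonsing_inv_mul _ hPu, mul_one]; simp only [mul_assoc]
    _ = P * (S * x.1 * S⁻¹) * (P⁻¹ * P) * (T * x.1 * T⁻¹) * P⁻¹ := by rw [hLe, hUe]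
    _ = _ := by simp only [mul_assoc]

theorem x13_det : x13.det = 1 := by decide

theorem x13_pow : x13 ^ 13 = 1 := by decide

theorem zmod3_pow_four : ∀ z : ZMod 3, z ≠ 0 → z ^ 3 * z = 1 := by decide

theorem zmod3_cases : ∀ α f : ZMod 3, -(α * f) = 1 → (α = 2 ∧ f = 1) ∨ (α = 1 ∧ f = 2) := by decide

/-- Each non-scalar element of `SL₃(3)` is a product of two conjugates of an element of order 13. -/
theorem exists_two_conj3 (g : SpecialLinearGroup (Fin 3) (ZMod 3)) [Fact (Nat.Prime 3)]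
    (hns : ∀ z : ZMod 3, g.1 ≠ scalar (Fin 3) z) : Good3 g.1 := by
  -- reduce to a normal form
  suffices h : ∃ P N : Matrix (Fin 3) (Fin 3) (ZMod 3), P.det ≠ 0 ∧ g.1 * P = P * N ∧ Good3 N by
    obtain ⟨P, N, hP, hgP, u, v, hu, hv, hN⟩ := h
    have hPu : IsUnit P.det := isUnit_iff_ne_zero.2 hP
    -- absorb the determinant of `P` by a scalar
    set Q := P.det • P with hQ
    have hQd : Q.det = 1 := by rw [hQ, det_smul, Fintype.card_fin, zmod3_pow_four _ hP]
    have hgQ : g.1 * Q = Q * N := by rw [hQ, Matrix.mul_smul, hgP, Matrix.smul_mul]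
    refine ⟨Q * u, Q * v, by rw [det_mul, hQd, hu, one_mul], by rw [det_mul, hQd, hv, one_mul], ?_⟩
    have hinv : Q.adjugate * Q = 1 := by rw [adjugate_mul, hQd, one_smul]
    have hinv' : Q * Q.adjugate = 1 := by rw [mul_adjugate, hQd, one_smul]
    rw [adjugate_mul_distrib, adjugate_mul_distrib]
    calc g.1 = g.1 * Q * Q.adjugate := by rw [mul_assoc, hinv', mul_one]
      _ = Q * (u * x13 * u.adjugate) * (Q.adjugate * Q) * (v * x13 * v.adjugate) * Q.adjugate := by
        rw [hgQ, hN, hinv, mul_one]; simp only [mul_assoc]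
      _ = _ := by simp only [mul_assoc]
  obtain ⟨v, hv⟩ := nonscalar_moves hns
  set u := g.1 *ᵥ v with hu
  obtain ⟨w, hw, hbest⟩ : ∃ w, (∀ α β : ZMod 3, w ≠ α • v + β • u) ∧
      (w = g.1 *ᵥ u ∨ ∃ α β : ZMod 3, g.1 *ᵥ u = α • v + β • u) := by
    by_cases h : ∃ α β : ZMod 3, g.1 *ᵥ u = α • v + β • u
    · obtain ⟨w, hw⟩ := exists_not_mem_span v u
      exact ⟨w, hw, Or.inr h⟩
    · push Not at h
      exact ⟨_, h, Or.inl rfl⟩
  have hd : (cols v u w).det ≠ 0 := by
    apply det_cols_ne_zero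
    intro a b c h
    have hc : c = 0 := by
      by_contra hc
      refine hw (-a / c) (-b / c) ?_
      have h' : c • w = (-a) • v + (-b) • u := by linear_combination (norm := module) h
      rw [← inv_smul_smul₀ hc w, h', smul_add, smul_smul, smul_smul, div_eq_inv_mul, div_eq_inv_mul]
    subst hc
    rw [zero_smul, add_zero] at h
    exact ⟨(hv a b h).1, (hv a b h).2, rfl⟩
  set P := cols v u w with hP
  have hPu : IsUnit P.det := isUnit_iff_ne_zero.2 hd
  have hinj : Function.Injective (P *ᵥ ·) := fun x y h => by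
    simpa [mulVec_mulVec, nonsing_inv_mul _ hPu] using congrArg (P⁻¹ *ᵥ ·) h
  set N := P⁻¹ * g.1 * P with hN
  have hPN : g.1 * P = P * N := by rw [hN, ← mul_assoc, ← mul_assoc, mul_nonsing_inv _ hPu, one_mul]
  refine ⟨P, N, hd, hPN, ?_⟩
  have hdet : N.det = 1 := by
    have := congrArg det hPN
    rw [det_mul, det_mul, g.2, one_mul] at this
    exact mul_left_cancel₀ hd (by rw [mul_one]; exact this.symm)
  have hcol : ∀ c, P *ᵥ (N *ᵥ c) = g.1 *ᵥ (P *ᵥ c) := fun c => by rw [mulVec_mulVec, ← hPN, mulVec_mulVec]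
  have h0 : N *ᵥ ![1, 0, 0] = ![0, 1, 0] := by
    apply hinj
    change P *ᵥ _ = P *ᵥ _
    rw [hcol, hP, cols_mulVec, cols_mulVec]
    simp [← hu]
  have a0 := congrFun h0 0
  have a1 := congrFun h0 1
  have a2 := congrFun h0 2
  simp [mulVec, dotProduct, Fin.sum_univ_three] at a0 a1 a2
  rcases hbest with hwu | ⟨α, β, hgu⟩
  · have h1 : N *ᵥ ![0, 1, 0] = ![0, 0, 1] := by
      apply hinj
      change P *ᵥ _ = P *ᵥ _
      rw [hcol, hP, cols_mulVec, cols_mulVec]
      simp [hwu]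
    have b0 := congrFun h1 0
    have b1 := congrFun h1 1
    have b2 := congrFun h1 2
    simp [mulVec, dotProduct, Fin.sum_univ_three] at b0 b1 b2
    have c0 : N 0 2 = 1 := by rw [det_fin_three, a0, a1, a2, b0, b1, b2] at hdet; simpa using hdet
    rw [show N = !![0, 0, 1; 1, 0, N 1 2; 0, 1, N 2 2] by
      ext i j; fin_cases i <;> fin_cases j <;> simp [a0, a1, a2, b0, b1, b2, c0]]
    exact table_cyclic _ _
  · have h1 : N *ᵥ ![0, 1, 0] = ![α, β, 0] := by
      apply hinj
      change P *ᵥ _ = P *ᵥ _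
      rw [hcol, hP, cols_mulVec, cols_mulVec]
      simp [hgu]
    have b0 := congrFun h1 0
    have b1 := congrFun h1 1
    have b2 := congrFun h1 2
    simp [mulVec, dotProduct, Fin.sum_univ_three] at b0 b1 b2
    have hαf : -(α * N 2 2) = 1 := by
      rw [det_fin_three, a0, a1, a2, b0, b1, b2] at hdet; linear_combination hdet
    rcases zmod3_cases α _ hαf with ⟨rfl, hf⟩ | ⟨rfl, hf⟩
    · rw [show N = !![0, 2, N 0 2; 1, β, N 1 2; 0, 0, 1] by
        ext i j; fin_cases i <;> fin_cases j <;> simp [a0, a1, a2, b0, b1, b2, hf]]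
      exact table_plane1 _ _ _
    · rw [show N = !![0, 1, N 0 2; 1, β, N 1 2; 0, 0, 2] by
        ext i j; fin_cases i <;> fin_cases j <;> simp [a0, a1, a2, b0, b1, b2, hf]]
      exact table_plane2 _ _ _

end Cfsg.Agent.Thompson3
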