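import Mathlib

/-!
Every non-central element of `Sp₄(q)` is, up to sign, a product of two conjugates of one regular
semisimple element `diag(B, (B⁻¹)ᵀ)`.
-/

set_option autoImplicit false
set_option linter.unusedSectionVars false
set_option linter.style.haveILetI false

namespace Cfsg.Agent.ThompsonSp4

open Matrix

variable {F : Type*} [Field F]

/-- The parameters of an irreducible quadratic polynomial with constant term different from `1`. -/
def Ell (a b : F) : Prop := b ≠ 1 ∧ ∀ r : F, r * r - a * r + b ≠ 0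

theorem exists_ell [Fintype F] (h3 : 3 ≤ Fintype.card F) : ∃ a b : F, Ell a b := by
  classical
  obtain ⟨b, hb0, hb1⟩ : ∃ b : F, b ≠ 0 ∧ b ≠ 1 := by
    by_contra h
    push Not at h
    have hsub : (Finset.univ : Finset F) ⊆ {0, 1} := fun y _ => by
      by_cases h0 : y = 0
      · simp [h0]
      · simp [h y h0]
    have h1 := (Finset.card_le_card hsub).trans Finset.card_le_two
    rw [Finset.card_univ] at h1
    omega
  obtain ⟨a, ha⟩ : ∃ a : F, a ∉ (Finset.univ.erase (0 : F)).image fun r => r + b / r := by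
    by_contra h
    push Not at h
    have h1 := Finset.card_le_card (s := (Finset.univ : Finset F)) fun y _ => h y
    have h2 := h1.trans Finset.card_image_le
    rw [Finset.card_erase_of_mem (Finset.mem_univ _), Finset.card_univ] at h2
    omega
  refine ⟨a, b, hb1, fun r hr => ?_⟩
  by_cases h0 : r = 0
  · subst h0
    exact hb0 (by linear_combination hr)
  · refine ha (Finset.mem_image.2 ⟨r, Finset.mem_erase.2 ⟨h0, Finset.mem_univ _⟩, ?_⟩)
    field_simp
    linear_combination hr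

theorem Ell.ne_zero {a b : F} (h : Ell a b) : b ≠ 0 := fun h0 => h.2 0 (by rw [h0]; ring)

/-- If `b² = 1` the trace cannot vanish. -/
theorem Ell.two_a {a b : F} (h : Ell a b) (hb : b * b = 1) : 2 * a ≠ 0 := by
  have hb' : b = -1 := (mul_self_eq_one_iff.1 hb).resolve_left h.1
  intro h2
  rcases mul_eq_zero.1 h2 with h2 | h2
  · exact h.1 (by linear_combination hb' - h2)
  · exact h.2 1 (by rw [h2, hb']; ring)

/-- A `2 × 2` matrix in the class of the companion matrix. -/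
def InCls (a b : F) (X : Matrix (Fin 2) (Fin 2) F) : Prop := X.trace = a ∧ X.det = b

/-- The companion matrix. -/
def comp (a b : F) : Matrix (Fin 2) (Fin 2) F := !![0, -b; 1, a]

theorem comp_inCls (a b : F) : InCls a b (comp a b) := by
  simp [InCls, comp, trace_fin_two, det_fin_two]

theorem inCls_inv {a b : F} (hb : b ≠ 0) {X : Matrix (Fin 2) (Fin 2) F} (hX : InCls a b X) :
    InCls (a / b) (1 / b) X⁻¹ := by
  obtain ⟨h1, h2⟩ := hX
  refine ⟨?_, ?_⟩
  · rw [Matrix.inv_def, adjugate_fin_two, trace_fin_two, h2]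
    rw [trace_fin_two] at h1
    simp only [Ring.inverse_eq_inv', Matrix.smul_apply, of_apply, cons_val', cons_val_zero, cons_val_one,
      cons_val_fin_one, smul_eq_mul]
    rw [← h1]
    field_simp
    ring
  · rw [det_nonsing_inv, h2, Ring.inverse_eq_inv', one_div]

/-- Symmetric matrices fixed by congruence with a member of the class vanish. -/
theorem cong_eq_zero {a b : F} (he : Ell a b) {X : Matrix (Fin 2) (Fin 2) F} (hX : InCls a b X)
    {S : Matrix (Fin 2) (Fin 2) F} (h : Xᵀ * S * X = S) : S = 0 := by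
  have hb := he.ne_zero
  obtain ⟨htr, hdet⟩ := hX
  by_cases hS : S.det = 0
  · obtain ⟨v, hv, hSv⟩ := exists_mulVec_eq_zero_iff.2 hS
    have hSXv : S *ᵥ (X *ᵥ v) = 0 := by
      have h1 : Xᵀ *ᵥ (S *ᵥ (X *ᵥ v)) = 0 := by rw [mulVec_mulVec, mulVec_mulVec, h, hSv]
      exact eq_zero_of_mulVec_eq_zero (by rwa [det_transpose, hdet]) h1
    obtain ⟨P, hP⟩ : ∃ P, P = !![v 0, (X *ᵥ v) 0; v 1, (X *ᵥ v) 1] := ⟨_, rfl⟩
    have hPd : P.det ≠ 0 := by
      intro h0
      obtain ⟨c, hc, hPc⟩ := exists_mulVec_eq_zero_iff.2 h0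
      have e : ∀ i, c 0 * v i + c 1 * (X *ᵥ v) i = 0 := by
        intro i
        have := congrFun hPc i
        fin_cases i <;> simp [hP, mulVec, dotProduct, Fin.sum_univ_two] at this ⊢ <;> linear_combination this
      by_cases h1 : c 1 = 0
      · have h00 : c 0 ≠ 0 := fun h00 => hc (by ext i; fin_cases i <;> assumption)
        refine hv (funext fun i => ?_)
        have := e i
        rw [h1, zero_mul, add_zero] at this
        exact (mul_eq_zero.1 this).resolve_left h00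
      -- an eigenvector
      have hev : X *ᵥ v = (-c 0 / c 1) • v := by
        funext i
        rw [Pi.smul_apply, smul_eq_mul]
        field_simp
        linear_combination e i
      apply he.2 (-c 0 / c 1)
      obtain ⟨l, hl⟩ : ∃ l, -c 0 / c 1 = l := ⟨_, rfl⟩
      rw [hl] at hev ⊢
      have hd : (X - l • 1).det = 0 := exists_mulVec_eq_zero_iff.1 ⟨v, hv, by
        rw [sub_mulVec, hev, smul_mulVec, one_mulVec, sub_self]⟩
      rw [det_fin_two] at hd hdet
      rw [trace_fin_two] at htr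
      simp at hd
      linear_combination hd - hdet + l * htr
    have hSP : S * P = 0 := by
      ext i k
      have e1 := congrFun hSv i
      have e2 := congrFun hSXv i
      fin_cases i <;> fin_cases k <;>
        simp [hP, Matrix.mul_apply, mulVec, dotProduct, Fin.sum_univ_two] at e1 e2 ⊢ <;>
        first
          | linear_combination e1
          | linear_combination e2
    have h1 := congrArg (· * P⁻¹) hSP
    simp only [Matrix.zero_mul] at h1
    rwa [Matrix.mul_assoc, Matrix.mul_nonsing_inv _ (Ne.isUnit hPd), Matrix.mul_one] at h1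
  · exfalso
    have hb2 : b * b = 1 := by
      have h1 := congrArg det h
      rw [det_mul, det_mul, det_transpose, hdet] at h1
      exact mul_right_cancel₀ hS (by linear_combination h1)
    have hXu : IsUnit X.det := by rw [hdet]; exact Ne.isUnit hb
    have h1 : Xᵀ = S * X⁻¹ * S⁻¹ := by
      conv_rhs => rw [← h]
      rw [Matrix.mul_assoc (Xᵀ * S), Matrix.mul_nonsing_inv _ hXu, Matrix.mul_one]
      conv_rhs => rw [h, Matrix.mul_assoc, Matrix.mul_nonsing_inv _ (Ne.isUnit hS), Matrix.mul_one]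
    have h2 := congrArg trace h1
    rw [trace_transpose, htr, trace_mul_cycle, Matrix.nonsing_inv_mul _ (Ne.isUnit hS), Matrix.one_mul,
      (inCls_inv hb ⟨htr, hdet⟩).1] at h2
    have hb' : b = -1 := (mul_self_eq_one_iff.1 hb2).resolve_left he.1
    rw [hb', div_neg, div_one] at h2
    exact he.two_a hb2 (by linear_combination h2)

/-- Congruence minus the identity is onto on symmetric matrices. -/
theorem exists_cong [Finite F] {a b : F} (he : Ell a b) {X : Matrix (Fin 2) (Fin 2) F} (hX : InCls a b X)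
    {T : Matrix (Fin 2) (Fin 2) F} (hT : Tᵀ = T) : ∃ U, Uᵀ = U ∧ Xᵀ * U * X - U = T := by
  let f : {U : Matrix (Fin 2) (Fin 2) F // Uᵀ = U} → {U : Matrix (Fin 2) (Fin 2) F // Uᵀ = U} :=
    fun U => ⟨Xᵀ * U.1 * X - U.1, by
      rw [transpose_sub, transpose_mul, transpose_mul, transpose_transpose, U.2, ← Matrix.mul_assoc]⟩
  have hf : Function.Injective f := fun U V h => Subtype.ext <| sub_eq_zero.1 <| cong_eq_zero he hX (by
    have h1 : Xᵀ * U.1 * X - U.1 = Xᵀ * V.1 * X - V.1 := congrArg Subtype.val h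
    rw [Matrix.mul_sub, Matrix.sub_mul]
    exact sub_eq_sub_iff_sub_eq_sub.1 h1)
  obtain ⟨U, hU⟩ := Finite.injective_iff_surjective.1 hf ⟨T, hT⟩
  exact ⟨U.1, U.2, congrArg Subtype.val hU⟩

/-- A product of members of the two classes inside a given hyperplane. -/
theorem exists_pair [Fintype F] {a b : F} (he : Ell a b) (N : Matrix (Fin 2) (Fin 2) F) :
    ∃ X Y, InCls a b X ∧ InCls (a / b) (1 / b) Y ∧ (X * Y * N).trace = 0 := by
  have hb := he.ne_zero
  by_cases hsc : N 1 0 = 0 ∧ N 0 1 = 0 ∧ N 0 0 = N 1 1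
  · by_cases h2 : (2 : F) = 0
    · refine ⟨comp a b, (comp a b)⁻¹, comp_inCls a b, inCls_inv hb (comp_inCls a b), ?_⟩
      rw [Matrix.mul_nonsing_inv _ (by rw [(comp_inCls a b).2]; exact Ne.isUnit hb), Matrix.one_mul,
        trace_fin_two, ← hsc.2.2, ← two_mul, h2, zero_mul]
    have hodd : Fintype.card F % 2 = 1 := FiniteField.odd_card_of_char_ne_two fun h => h2 (by
      have := ringChar.Nat.cast_ringChar (R := F)
      rw [h] at this
      exact_mod_cast this)
    obtain ⟨x, y, hxy⟩ := FiniteField.exists_root_sum_quadratic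
      (f := Polynomial.C 1 * Polynomial.X ^ 2 + Polynomial.C (-a) * Polynomial.X + Polynomial.C b)
      (g := Polynomial.C 1 * Polynomial.X ^ 2 + Polynomial.C a * Polynomial.X + Polynomial.C 0)
      (Polynomial.degree_quadratic one_ne_zero) (Polynomial.degree_quadratic one_ne_zero) hodd
    simp only [Polynomial.eval_add, Polynomial.eval_mul, Polynomial.eval_pow, Polynomial.eval_C,
      Polynomial.eval_X] at hxy
    refine ⟨!![x, y; a + y, a - x], !![-y / b, (x - a) / b; x / b, (a + y) / b], ⟨?_, ?_⟩, ⟨?_, ?_⟩, ?_⟩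
    · simp [trace_fin_two]
    · simp [det_fin_two]; linear_combination -hxy
    · simp [trace_fin_two]
      field_simp
      ring
    · simp [det_fin_two]
      field_simp
      linear_combination -hxy
    · simp [trace_fin_two, vecMul, dotProduct, Fin.sum_univ_two, hsc.1, hsc.2.1, ← hsc.2.2]
      field_simp
      ring
  -- a basis in which `N` is a companion matrix
  obtain ⟨P, hPd, hP⟩ : ∃ P : Matrix (Fin 2) (Fin 2) F, P.det ≠ 0 ∧
      N * P = P * !![0, -N.det; 1, N.trace] := by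
    obtain ⟨u, hu⟩ : ∃ u : Fin 2 → F, (!![u 0, (N *ᵥ u) 0; u 1, (N *ᵥ u) 1]).det ≠ 0 := by
      by_contra h
      push Not at h
      have h1 := h ![1, 0]
      have h2 := h ![0, 1]
      have h3 := h ![1, 1]
      simp [det_fin_two, mulVec, dotProduct, Fin.sum_univ_two] at h1 h2 h3
      exact hsc ⟨h1, h2, by linear_combination h1 - h2 - h3⟩
    refine ⟨_, hu, ?_⟩
    ext i j
    fin_cases i <;> fin_cases j <;>
      simp [Matrix.mul_apply, mulVec, dotProduct, Fin.sum_univ_two, det_fin_two, trace_fin_two] <;> ring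
  obtain ⟨n, hn⟩ : ∃ n, N.det = n := ⟨_, rfl⟩
  obtain ⟨t, ht⟩ : ∃ t, N.trace = t := ⟨_, rfl⟩
  rw [hn, ht] at hP
  suffices h : ∃ X Y, InCls a b X ∧ InCls (a / b) (1 / b) Y ∧ (X * Y * !![0, -n; 1, t]).trace = 0 by
    obtain ⟨X, Y, ⟨hX1, hX2⟩, ⟨hY1, hY2⟩, hXY⟩ := h
    have hPu : IsUnit P.det := Ne.isUnit hPd
    have hconj : ∀ Z, (P * Z * P⁻¹).trace = Z.trace ∧ (P * Z * P⁻¹).det = Z.det := fun Z =>
      ⟨by rw [trace_mul_cycle, Matrix.nonsing_inv_mul _ hPu, Matrix.one_mul],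
       det_conj ((Matrix.isUnit_iff_isUnit_det P).2 hPu) Z⟩
    refine ⟨P * X * P⁻¹, P * Y * P⁻¹, ⟨(hconj X).1.trans hX1, (hconj X).2.trans hX2⟩,
      ⟨(hconj Y).1.trans hY1, (hconj Y).2.trans hY2⟩, ?_⟩
    have hN' : N = P * !![0, -n; 1, t] * P⁻¹ := by
      rw [← hP, Matrix.mul_assoc, Matrix.mul_nonsing_inv _ hPu, Matrix.mul_one]
    have e : P * X * P⁻¹ * (P * Y * P⁻¹) * (P * !![0, -n; 1, t] * P⁻¹) = P * (X * Y * !![0, -n; 1, t]) * P⁻¹ := by
      simp only [Matrix.mul_assoc, Matrix.nonsing_inv_mul_cancel_left _ _ hPu]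
    rw [hN', e, (hconj _).1, hXY]
  have hX : ∀ μ : F, μ ≠ 0 → InCls a b !![a, μ; -b / μ, 0] := fun μ hμ => by
    refine ⟨by simp [trace_fin_two], ?_⟩
    simp [det_fin_two]
    field_simp
  obtain ⟨μ, hμ, hgood⟩ : ∃ μ : F, μ ≠ 0 ∧ (n * b / μ ≠ μ ∨ (a ≠ 0 ∧ a - t * b / μ ≠ 0)) := by
    by_contra h
    push Not at h
    have e1 := h 1 one_ne_zero
    obtain ⟨hn1, h1⟩ := e1
    have e2 := h b hb
    obtain ⟨hnb, -⟩ := e2
    have e3 := h (-1) (neg_ne_zero.2 one_ne_zero)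
    obtain ⟨-, h3⟩ := e3
    rw [div_one] at hn1 h1
    rw [hn1] at hnb
    have hb2 : b * b = 1 := by
      field_simp at hnb
      linear_combination -hnb
    have ha : a ≠ 0 := fun h0 => he.two_a hb2 (by rw [h0, mul_zero])
    have h1' := h1 ha
    have h3' := h3 ha
    rw [div_neg, div_one] at h3'
    exact he.two_a hb2 (by linear_combination h1' + h3')
  obtain ⟨y, η, z, hz, hy⟩ : ∃ y η z : F, y * (a / b - y) - η * z = 1 / b ∧
      n * b / μ * y + (a - t * b / μ) * η + μ * (a / b - y) = 0 := by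
    by_cases hc : n * b / μ = μ
    · obtain ⟨ha, hr⟩ := hgood.resolve_left (fun h => h hc)
      obtain ⟨r, hr'⟩ : ∃ r, a - t * b / μ = r := ⟨_, rfl⟩
      rw [hr'] at hr ⊢
      refine ⟨0, -(μ * (a / b)) / r, r / (μ * a), ?_, ?_⟩
      · field_simp
        ring
      · field_simp
        ring
    · obtain ⟨s, hs'⟩ : ∃ s, n * b / μ = s := ⟨_, rfl⟩
      rw [hs'] at hc ⊢
      have hs : s - μ ≠ 0 := sub_ne_zero.2 hc
      obtain ⟨y, hy⟩ : ∃ y, -((a - t * b / μ) + μ * (a / b)) / (s - μ) = y := ⟨_, rfl⟩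
      refine ⟨y, 1, y * (a / b - y) - 1 / b, by ring, ?_⟩
      rw [← hy]
      field_simp
      ring
  refine ⟨!![a, μ; -b / μ, 0], !![y, η; z, a / b - y], hX μ hμ, ⟨?_, ?_⟩, ?_⟩
  · simp [trace_fin_two]
  · simp [det_fin_two]; linear_combination hz
  · simp [trace_fin_two]
    linear_combination hy

section Sp

/-- The alternating form preserved by the symplectic matrices. -/
def om (u v : Fin 2 ⊕ Fin 2 → F) : F :=
  u (.inl 0) * v (.inr 0) + u (.inl 1) * v (.inr 1) - u (.inr 0) * v (.inl 0) - u (.inr 1) * v (.inl 1)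

theorem om_eq (u v : Fin 2 ⊕ Fin 2 → F) : om u v = -(u ⬝ᵥ (J (Fin 2) F *ᵥ v)) := by
  simp [om, J, dotProduct, mulVec, Fintype.sum_sum_type, Fin.sum_univ_two, Matrix.one_apply]
  ring

theorem om_self (u : Fin 2 ⊕ Fin 2 → F) : om u u = 0 := by simp [om]; ring

theorem om_swap (u v : Fin 2 ⊕ Fin 2 → F) : om u v = -om v u := by simp [om]; ring

theorem om_add_right (u v w : Fin 2 ⊕ Fin 2 → F) : om u (v + w) = om u v + om u w := by simp [om]; ring

theorem om_sub_right (u v w : Fin 2 ⊕ Fin 2 → F) : om u (v - w) = om u v - om u w := by simp [om]; ring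

theorem om_smul_right (c : F) (u v : Fin 2 ⊕ Fin 2 → F) : om u (c • v) = c * om u v := by simp [om]; ring

theorem om_add_left (u v w : Fin 2 ⊕ Fin 2 → F) : om (u + v) w = om u w + om v w := by simp [om]; ring

theorem om_sub_left (u v w : Fin 2 ⊕ Fin 2 → F) : om (u - v) w = om u w - om v w := by simp [om]; ring

theorem om_smul_left (c : F) (u v : Fin 2 ⊕ Fin 2 → F) : om (c • u) v = c * om u v := by simp [om]; ring

theorem om_nd {u : Fin 2 ⊕ Fin 2 → F} (h : ∀ v, om u v = 0) : u = 0 := by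
  funext i
  have a := h (Pi.single (.inl 0) 1)
  have b := h (Pi.single (.inl 1) 1)
  have c := h (Pi.single (.inr 0) 1)
  have d := h (Pi.single (.inr 1) 1)
  simp [om] at a b c d
  rcases i with i | i <;> fin_cases i <;> simp [a, b, c, d]

theorem exists_sep {u w : Fin 2 ⊕ Fin 2 → F} (h : ∀ l : F, w ≠ l • u) :
    ∃ y, om u y = 0 ∧ om w y = 1 := by
  suffices h' : ∃ y, om u y = 0 ∧ om w y ≠ 0 by
    obtain ⟨y, h1, h2⟩ := h'
    exact ⟨(om w y)⁻¹ • y, by rw [om_smul_right, h1, mul_zero], by rw [om_smul_right, inv_mul_cancel₀ h2]⟩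
  by_contra hne
  push Not at hne
  by_cases hu : ∀ y, om u y = 0
  · exact h 0 (by rw [zero_smul]; exact om_nd fun y => hne y (hu y))
  push Not at hu
  obtain ⟨x, hx⟩ := hu
  refine h (om w x / om u x) (sub_eq_zero.1 (om_nd fun z => ?_))
  have h1 := hne (z - (om u z / om u x) • x) (by rw [om_sub_right, om_smul_right, div_mul_cancel₀ _ hx, sub_self])
  rw [om_sub_right, om_smul_right] at h1
  rw [om_sub_left, om_smul_left]
  field_simp at h1 ⊢
  linear_combination h1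

theorem om_mulVec {G : Matrix (Fin 2 ⊕ Fin 2) (Fin 2 ⊕ Fin 2) F} (hG : G ∈ symplecticGroup (Fin 2) F)
    (u v : Fin 2 ⊕ Fin 2 → F) : om (G *ᵥ u) (G *ᵥ v) = om u v := by
  rw [om_eq, om_eq, mulVec_mulVec, dotProduct_mulVec, ← vecMul_transpose, vecMul_vecMul, ← Matrix.mul_assoc,
    SymplecticGroup.mem_iff'.1 hG, dotProduct_mulVec]

theorem mul_entry (M h : Matrix (Fin 2 ⊕ Fin 2) (Fin 2 ⊕ Fin 2) F) (i j : Fin 2 ⊕ Fin 2) :
    (hᵀ * M * h) i j = (fun k => h k i) ⬝ᵥ (M *ᵥ fun k => h k j) := by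
  rw [dotProduct_mulVec]
  rfl

/-- Two independent orthogonal vectors begin a symplectic basis. -/
theorem exists_basis {u₁ u₂ : Fin 2 ⊕ Fin 2 → F} (h1 : ∀ l : F, u₂ ≠ l • u₁) (h2 : ∀ l : F, u₁ ≠ l • u₂)
    (ho : om u₁ u₂ = 0) : ∃ h : Matrix.symplecticGroup (Fin 2) F,
      (fun k => h.1 k (.inl 0)) = u₁ ∧ (fun k => h.1 k (.inl 1)) = u₂ := by
  obtain ⟨f₁, hf1, hf1'⟩ := exists_sep h2
  obtain ⟨f, hf2, hf2'⟩ := exists_sep h1
  obtain ⟨f₂, hf⟩ : ∃ f₂, f₂ = f + om f₁ f • u₁ := ⟨_, rfl⟩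
  have g12 : om u₁ f₂ = 0 := by rw [hf, om_add_right, om_smul_right, hf2, om_self, mul_zero, add_zero]
  have g22 : om u₂ f₂ = 1 := by
    rw [hf, om_add_right, om_smul_right, hf2', om_swap u₂ u₁, ho, neg_zero, mul_zero, add_zero]
  have gff : om f₁ f₂ = 0 := by rw [hf, om_add_right, om_smul_right, om_swap f₁ u₁, hf1']; ring
  obtain ⟨H, hH⟩ : ∃ H : Matrix (Fin 2 ⊕ Fin 2) (Fin 2 ⊕ Fin 2) F,
      H = Matrix.of fun k j => Sum.elim ![u₁, u₂] ![f₁, f₂] j k := ⟨_, rfl⟩
  refine ⟨⟨H, SymplecticGroup.mem_iff'.2 ?_⟩, by subst hH; rfl, by subst hH; rfl⟩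
  subst hH
  ext i j
  rw [mul_entry]
  have e : ∀ u v : Fin 2 ⊕ Fin 2 → F, u ⬝ᵥ (J (Fin 2) F *ᵥ v) = -om u v := fun u v => by
    rw [om_eq, neg_neg]
  rw [e]
  rcases i with i | i <;> rcases j with j | j <;> fin_cases i <;> fin_cases j <;>
    simp [J, om_self, ho, hf1, hf1', g12, g22, gff, om_swap f₁ u₁, om_swap f₁ u₂, om_swap f₂ u₁, om_swap f₂ u₂,
      om_swap u₂ u₁, om_swap f₂ f₁]

/-- The symplectic matrix `diag(X, (X⁻¹)ᵀ)`. -/
noncomputable def dia (X : GL (Fin 2) F) : Matrix.symplecticGroup (Fin 2) F :=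
  ⟨fromBlocks X.1 0 0 (X⁻¹).1ᵀ, SymplecticGroup.mem_iff.2 (by
    rw [J, fromBlocks_transpose, fromBlocks_multiply, fromBlocks_multiply]
    simp [← Matrix.transpose_mul])⟩

theorem dia_mul (X Y : GL (Fin 2) F) : dia (X * Y) = dia X * dia Y :=
  Subtype.ext (by
    show fromBlocks _ _ _ _ = fromBlocks _ _ _ _ * fromBlocks _ _ _ _
    rw [fromBlocks_multiply]
    simp [_root_.mul_inv_rev, transpose_mul])

theorem dia_one : dia (1 : GL (Fin 2) F) = 1 :=
  Subtype.ext (by show fromBlocks _ _ _ _ = 1; simp)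

/-- The map `X ↦ diag(X, (X⁻¹)ᵀ)`. -/
noncomputable def diaHom : GL (Fin 2) F →* Matrix.symplecticGroup (Fin 2) F where
  toFun := dia
  map_one' := dia_one
  map_mul' := dia_mul

/-- A lower unitriangular symplectic matrix. -/
def low (S : Matrix (Fin 2) (Fin 2) F) (h : Sᵀ = S) : Matrix.symplecticGroup (Fin 2) F :=
  ⟨fromBlocks 1 0 S 1, SymplecticGroup.mem_iff.2 (by
    rw [J, fromBlocks_transpose, fromBlocks_multiply, fromBlocks_multiply]
    simp [h])⟩

/-- An upper unitriangular symplectic matrix. -/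
def upp (S : Matrix (Fin 2) (Fin 2) F) (h : Sᵀ = S) : Matrix.symplecticGroup (Fin 2) F :=
  ⟨fromBlocks 1 S 0 1, SymplecticGroup.mem_iff.2 (by
    rw [J, fromBlocks_transpose, fromBlocks_multiply, fromBlocks_multiply]
    simp [h])⟩

variable [Fintype F]

theorem isConj_dia {a b : F} (he : Ell a b) {B X : GL (Fin 2) F} (hB : B.1 = comp a b)
    (hX : InCls a b X.1) : IsConj (dia B) (dia X) := by
  obtain ⟨ht, hd⟩ := hX
  rw [trace_fin_two] at ht
  rw [det_fin_two] at hd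
  have hx : X.1 1 0 ≠ 0 := fun h0 => he.2 (X.1 0 0) (by
    rw [h0, mul_zero, sub_zero] at hd
    linear_combination X.1 0 0 * ht - hd)
  obtain ⟨P, hP⟩ : ∃ P : GL (Fin 2) F, P.1 = !![1, X.1 0 0; 0, X.1 1 0] :=
    ⟨Matrix.GeneralLinearGroup.mkOfDetNeZero _ (by simp [det_fin_two, hx]), rfl⟩
  refine isConj_iff.2 ⟨dia P, ?_⟩
  rw [mul_inv_eq_iff_eq_mul, ← dia_mul, ← dia_mul]
  congr 1
  refine Units.ext ?_
  show P.1 * B.1 = X.1 * P.1
  rw [hP, hB]
  ext i j
  fin_cases i <;> fin_cases j <;> simp [comp, Matrix.mul_apply, Fin.sum_univ_two, ← ht, ← hd] <;> ring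

theorem isConj_dia' {a b : F} (he : Ell a b) {B Y : GL (Fin 2) F} (hB : B.1 = comp a b)
    (hY : InCls (a / b) (1 / b) Y.1) : IsConj (dia B) (dia Y) := by
  have hb := he.ne_zero
  obtain ⟨Z, hZ⟩ : ∃ Z : GL (Fin 2) F, Z.1 = (Y⁻¹).1ᵀ :=
    ⟨Matrix.GeneralLinearGroup.mkOfDetNeZero ((Y⁻¹).1ᵀ) (by
      rw [det_transpose]; exact ((Matrix.isUnit_iff_isUnit_det _).1 (Y⁻¹).isUnit).ne_zero), rfl⟩
  have h1 : InCls a b Z.1 := by
    have := inCls_inv (one_div_ne_zero hb) hY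
    rw [show a / b / (1 / b) = a by field_simp, one_div_one_div, ← Matrix.coe_units_inv] at this
    rw [hZ]
    exact ⟨by rw [trace_transpose]; exact this.1, by rw [det_transpose]; exact this.2⟩
  refine (isConj_dia he hB h1).trans (isConj_iff.2 ⟨SymplecticGroup.symJ (Fin 2) F, ?_⟩)
  rw [mul_inv_eq_iff_eq_mul]
  refine Subtype.ext ?_
  show J (Fin 2) F * fromBlocks _ _ _ _ = fromBlocks _ _ _ _ * J (Fin 2) F
  rw [J, fromBlocks_multiply, fromBlocks_multiply]
  have e : (Z⁻¹).1ᵀ = Y.1 := by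
    have h2 : Z.1 * Y.1ᵀ = 1 := by rw [hZ, ← transpose_mul, ← Units.val_mul, mul_inv_cancel, Units.val_one, transpose_one]
    rw [Matrix.coe_units_inv, Matrix.inv_eq_right_inv h2, transpose_transpose]
  rw [← hZ, e]
  simp

theorem low_conj {a b : F} (he : Ell a b) {X : GL (Fin 2) F} (hX : InCls a b X.1)
    {S : Matrix (Fin 2) (Fin 2) F} (hS : Sᵀ = S) : IsConj (dia X) (low S hS * dia X) := by
  obtain ⟨U, hU, hUX⟩ := exists_cong he hX (T := X.1ᵀ * S * X.1) (by
    rw [transpose_mul, transpose_mul, transpose_transpose, hS, Matrix.mul_assoc])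
  refine isConj_iff.2 ⟨low U hU, ?_⟩
  rw [mul_inv_eq_iff_eq_mul]
  refine Subtype.ext ?_
  show fromBlocks _ _ _ _ * fromBlocks _ _ _ _ = fromBlocks _ _ _ _ * fromBlocks _ _ _ _ * fromBlocks _ _ _ _
  rw [fromBlocks_multiply, fromBlocks_multiply, fromBlocks_multiply]
  simp only [Matrix.one_mul, Matrix.zero_mul, Matrix.mul_zero, Matrix.mul_one, add_zero, zero_add]
  congr 1
  have h1 : (X⁻¹).1ᵀ * X.1ᵀ = 1 := by
    rw [← transpose_mul, ← Units.val_mul, mul_inv_cancel, Units.val_one, transpose_one]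
  have h2 : U = X.1ᵀ * (U * X.1) - X.1ᵀ * (S * X.1) := by
    rw [Matrix.mul_assoc, Matrix.mul_assoc] at hUX
    rw [← hUX]; abel
  have h3 := congrArg (fun M => (X⁻¹).1ᵀ * M) h2
  simp only [Matrix.mul_sub, ← Matrix.mul_assoc, h1, Matrix.one_mul] at h3
  rw [h3]; abel

theorem upp_conj {a b : F} (he : Ell a b) {X : GL (Fin 2) F} (hX : InCls (a / b) (1 / b) X.1)
    {S : Matrix (Fin 2) (Fin 2) F} (hS : Sᵀ = S) : IsConj (dia X) (dia X * upp S hS) := by
  have hb := he.ne_zero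
  have he' : Ell (a / b) (1 / b) := by
    refine ⟨fun h => he.1 (by field_simp at h; exact h.symm), fun r hr => ?_⟩
    rcases eq_or_ne r 0 with rfl | hr0
    · simp [hb] at hr
    · refine he.2 r⁻¹ ?_
      field_simp at hr ⊢
      linear_combination hr
  obtain ⟨U, hU, hUX⟩ := exists_cong he' (X := X.1ᵀ) ⟨by rw [trace_transpose]; exact hX.1,
    by rw [det_transpose]; exact hX.2⟩ (T := -(X.1 * S * X.1ᵀ)) (by
    rw [transpose_neg, transpose_mul, transpose_mul, transpose_transpose, hS, Matrix.mul_assoc])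
  refine isConj_iff.2 ⟨upp U hU, ?_⟩
  rw [mul_inv_eq_iff_eq_mul]
  refine Subtype.ext ?_
  show fromBlocks _ _ _ _ * fromBlocks _ _ _ _ = fromBlocks _ _ _ _ * fromBlocks _ _ _ _ * fromBlocks _ _ _ _
  rw [fromBlocks_multiply, fromBlocks_multiply, fromBlocks_multiply]
  simp only [Matrix.one_mul, Matrix.zero_mul, Matrix.mul_zero, Matrix.mul_one, add_zero, zero_add]
  congr 1
  have h1 : X.1ᵀ * (X⁻¹).1ᵀ = 1 := by
    rw [← transpose_mul, ← Units.val_mul, inv_mul_cancel, Units.val_one, transpose_one]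
  rw [transpose_transpose] at hUX
  have h2 : U = X.1 * U * X.1ᵀ + X.1 * S * X.1ᵀ := by
    have := sub_eq_iff_eq_add.1 hUX
    rw [this]; abel
  have h3 := congrArg (fun M => M * (X⁻¹).1ᵀ) h2
  simp only [Matrix.add_mul, Matrix.mul_assoc, h1, Matrix.mul_one] at h3
  rw [h3]

/-- A symplectic matrix with upper left block in the product of the classes is a product of two
conjugates. -/
theorem cover_block {a b : F} (he : Ell a b) {B : GL (Fin 2) F} (hB : B.1 = comp a b)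
    (g : Matrix.symplecticGroup (Fin 2) F) (X Y : GL (Fin 2) F) (hX : InCls a b X.1)
    (hY : InCls (a / b) (1 / b) Y.1) (hA : g.1.toBlocks₁₁ = X.1 * Y.1) :
    ∃ u v, g = (u * dia B * u⁻¹) * (v * dia B * v⁻¹) := by
  obtain ⟨A, P, C, D, hg⟩ : ∃ A P C D, g.1 = fromBlocks A P C D :=
    ⟨_, _, _, _, (fromBlocks_toBlocks g.1).symm⟩
  rw [hg, toBlocks_fromBlocks₁₁] at hA
  obtain ⟨Z, hZ⟩ : ∃ Z, X * Y = Z := ⟨_, rfl⟩
  replace hA : A = Z.1 := by rw [hA, ← hZ, Units.val_mul]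
  have hm := SymplecticGroup.mem_iff'.1 g.2
  have hm2 := SymplecticGroup.mem_iff.1 g.2
  rw [hg, J, fromBlocks_transpose, fromBlocks_multiply, fromBlocks_multiply] at hm hm2
  simp only [Matrix.mul_zero, Matrix.mul_one, Matrix.mul_neg, add_zero, zero_add, Matrix.neg_mul] at hm hm2
  obtain ⟨q1, q2, -, -⟩ := fromBlocks_inj.1 hm
  obtain ⟨r1, -, -, -⟩ := fromBlocks_inj.1 hm2
  subst hA
  have i1 : (Z⁻¹).1 * Z.1 = 1 := Units.inv_mul Z
  have i2 : Z.1 * (Z⁻¹).1 = 1 := Units.mul_inv Z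
  have i3 : (Z⁻¹).1ᵀ * Z.1ᵀ = 1 := by rw [← transpose_mul, i2, transpose_one]
  have hT : ((Z⁻¹).1 * P)ᵀ = (Z⁻¹).1 * P := by
    rw [transpose_mul]
    have h : P * Z.1ᵀ = Z.1 * Pᵀ := add_neg_eq_zero.1 r1
    calc Pᵀ * (Z⁻¹).1ᵀ = (Z⁻¹).1 * (Z.1 * Pᵀ) * (Z⁻¹).1ᵀ := by rw [← Matrix.mul_assoc, i1, Matrix.one_mul]
      _ = (Z⁻¹).1 * P * ((Z⁻¹).1 * Z.1)ᵀ := by rw [← h, transpose_mul]; simp only [Matrix.mul_assoc]
      _ = _ := by rw [i1, transpose_one, Matrix.mul_one]
  have hS : (C * (Z⁻¹).1)ᵀ = C * (Z⁻¹).1 := by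
    rw [transpose_mul]
    have h : Cᵀ * Z.1 = Z.1ᵀ * C := add_neg_eq_zero.1 q1
    calc (Z⁻¹).1ᵀ * Cᵀ = (Z⁻¹).1ᵀ * (Cᵀ * Z.1) * (Z⁻¹).1 := by simp only [Matrix.mul_assoc, i2, Matrix.mul_one]
      _ = ((Z⁻¹).1ᵀ * Z.1ᵀ) * C * (Z⁻¹).1 := by rw [h]; simp only [Matrix.mul_assoc]
      _ = _ := by rw [i3, Matrix.one_mul]
  obtain ⟨u, hu⟩ := isConj_iff.1 ((isConj_dia he hB hX).trans (low_conj he hX hS))
  obtain ⟨v, hv⟩ := isConj_iff.1 ((isConj_dia' he hB hY).trans (upp_conj he hY hT))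
  refine ⟨u, v, ?_⟩
  rw [hu, hv, mul_assoc, ← mul_assoc (dia X), ← dia_mul, hZ]
  refine Subtype.ext ?_
  show g.1 = fromBlocks _ _ _ _ * (fromBlocks _ _ _ _ * fromBlocks _ _ _ _)
  rw [hg, fromBlocks_multiply, fromBlocks_multiply]
  simp only [Matrix.one_mul, Matrix.zero_mul, Matrix.mul_zero, Matrix.mul_one, add_zero, zero_add]
  congr 1
  · rw [← Matrix.mul_assoc, i2, Matrix.one_mul]
  · rw [Matrix.mul_assoc, i1, Matrix.mul_one]
  · have h : Z.1ᵀ * D = 1 + Cᵀ * P := by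
      have h0 : Cᵀ * P + -(Z.1ᵀ * D) = -1 := q2
      rw [← sub_eq_add_neg, sub_eq_iff_eq_add] at h0
      rw [h0]; abel
    have e : (C * (Z⁻¹).1) = (Z⁻¹).1ᵀ * Cᵀ := by rw [← hS, transpose_mul]
    calc D = (Z⁻¹).1ᵀ * (Z.1ᵀ * D) := by rw [← Matrix.mul_assoc, i3, Matrix.one_mul]
      _ = (Z⁻¹).1ᵀ + (Z⁻¹).1ᵀ * Cᵀ * P := by rw [h, Matrix.mul_add, Matrix.mul_one, ← Matrix.mul_assoc]
      _ = C * (Z⁻¹).1 * (Z.1 * ((Z⁻¹).1 * P)) + (Z⁻¹).1ᵀ := by
        rw [← Matrix.mul_assoc Z.1, i2, Matrix.one_mul, e, add_comm]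

/-- The lower left block of a conjugate. -/
theorem conj_block (g h : Matrix.symplecticGroup (Fin 2) F) (i j : Fin 2) :
    (h⁻¹ * g * h).1 (.inr i) (.inl j) = om (fun k => h.1 k (.inl i)) (g.1 *ᵥ fun k => h.1 k (.inl j)) := by
  show ((-J (Fin 2) F) * h.1ᵀ * J (Fin 2) F * g.1 * h.1) _ _ = _
  rw [show (-J (Fin 2) F) * h.1ᵀ * J (Fin 2) F * g.1 * h.1 = (-J (Fin 2) F) * (h.1ᵀ * (J (Fin 2) F * g.1) * h.1) by
    simp only [Matrix.mul_assoc], om_eq, mulVec_mulVec, ← mul_entry]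
  obtain ⟨W, hW⟩ : ∃ W, h.1ᵀ * (J (Fin 2) F * g.1) * h.1 = W := ⟨_, rfl⟩
  rw [hW]
  simp [J, Matrix.mul_apply, Fintype.sum_sum_type, Fin.sum_univ_two]
  fin_cases i <;> simp [Matrix.one_apply]

/-- The existence of a good Lagrangian plane. -/
theorem exists_plane (g : Matrix.symplecticGroup (Fin 2) F)
    (hns : ∃ v, ∀ l : F, g.1 *ᵥ v ≠ l • v) :
    (∃ u₁ u₂, om u₁ u₂ = 0 ∧
      om u₁ (g.1 *ᵥ u₁) * om u₂ (g.1 *ᵥ u₂) - om u₁ (g.1 *ᵥ u₂) * om u₂ (g.1 *ᵥ u₁) ≠ 0) ∨
    ∃ ε : F, ε * ε = 1 ∧ ∃ u₁ u₂, om u₁ u₂ = 0 ∧ (∀ l : F, u₂ ≠ l • u₁) ∧ (∀ l : F, u₁ ≠ l • u₂) ∧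
      g.1 *ᵥ u₁ = ε • u₁ ∧ g.1 *ᵥ u₂ = ε • u₂ := by
  obtain ⟨G, hG⟩ : ∃ G, g.1 = G := ⟨_, rfl⟩
  simp only [hG] at hns ⊢
  have hp : ∀ x y, om (G *ᵥ x) (G *ᵥ y) = om x y := fun x y => om_mulVec (hG ▸ g.2) x y
  by_cases hq : ∀ v, om v (G *ᵥ v) = 0
  · left
    obtain ⟨v, hv⟩ := hns
    obtain ⟨e, he1, he2⟩ := exists_sep hv
    have h1 := hq (v + e)
    rw [mulVec_add, om_add_left, om_add_right, om_add_right, hq, hq] at h1
    rw [om_swap e (G *ᵥ v), he2] at h1
    refine ⟨v, e, he1, ?_⟩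
    rw [hq, hq, om_swap e (G *ᵥ v), he2, show om v (G *ᵥ e) = 1 by linear_combination h1]
    norm_num
  push Not at hq
  obtain ⟨v, hc⟩ := hq
  obtain ⟨c, hcd⟩ : ∃ c, om v (G *ᵥ v) = c := ⟨_, rfl⟩
  rw [hcd] at hc
  let W : (Fin 2 ⊕ Fin 2 → F) → Prop := fun w => om v w = 0 ∧ om (G *ᵥ v) w = 0
  by_cases hu : ∃ u, W u ∧ om u (G *ᵥ u) ≠ 0
  · obtain ⟨u, ⟨hu1, hu2⟩, hu3⟩ := hu
    left
    refine ⟨v, u, hu1, ?_⟩
    rw [hcd, om_swap u (G *ᵥ v), hu2, neg_zero, mul_zero, sub_zero]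
    exact mul_ne_zero hc hu3
  push Not at hu
  by_cases hgood : ∃ w x, W w ∧ om w x = 0 ∧ om w (G *ᵥ x) * om x (G *ᵥ w) ≠ 0
  · obtain ⟨w, x, hw, hwx, hne⟩ := hgood
    left
    refine ⟨w, x, hwx, ?_⟩
    rw [hu w hw, zero_mul, zero_sub, neg_ne_zero]
    exact hne
  push Not at hgood
  -- the elements of `W` are eigenvectors
  have hinj : ∀ x y, G *ᵥ x = G *ᵥ y → x = y := fun x y h => sub_eq_zero.1 (om_nd fun z => by
    rw [om_sub_left, ← hp x z, ← hp y z, h, sub_self])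
  have hsurj : ∀ y, ∃ x, G *ᵥ x = y := fun y =>
    (Finite.injective_iff_surjective.1 fun x x' => hinj x x') y
  have heig : ∀ w, W w → ∃ l : F, G *ᵥ w = l • w := by
    intro w hw
    by_contra hne
    push Not at hne
    obtain ⟨x, hx1, hx2⟩ := exists_sep hne
    obtain ⟨y, hy⟩ := hsurj w
    have hy' : ∀ l : F, y ≠ l • w := by
      intro l hl
      rcases eq_or_ne l 0 with rfl | hl0
      · rw [zero_smul] at hl
        rw [hl, mulVec_zero] at hy
        exact hne 0 (by rw [← hy, mulVec_zero, zero_smul])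
      · refine hne l⁻¹ ?_
        conv_rhs => rw [← hy, hl, mulVec_smul, smul_smul, inv_mul_cancel₀ hl0, one_smul]
    obtain ⟨z, hz1, hz2⟩ := exists_sep hy'
    have hg : ∀ t, om w (G *ᵥ t) = om y t := fun t => by conv_lhs => rw [← hy, hp]
    have e1 := hgood w x hw hx1
    have e2 := hgood w z hw hz1
    have e3 := hgood w (x + z) hw (by rw [om_add_right, hx1, hz1, add_zero])
    rw [hg, om_swap x (G *ᵥ w), hx2] at e1
    rw [hg, hz2, one_mul] at e2
    rw [mul_eq_zero] at e1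
    rw [hg, om_add_right, hz2, om_add_left, e2, om_swap x (G *ᵥ w), hx2,
      e1.resolve_right (by norm_num)] at e3
    norm_num at e3
  -- the projection on `W`
  let π : (Fin 2 ⊕ Fin 2 → F) → (Fin 2 ⊕ Fin 2 → F) := fun z =>
    z - (om z (G *ᵥ v) / c) • v - (om v z / c) • (G *ᵥ v)
  have hπ : ∀ z, W (π z) := fun z => by
    constructor
    · simp only [π, om_sub_right, om_smul_right, om_self, hcd]
      field_simp
      ring
    · simp only [π, om_sub_right, om_smul_right, om_self, om_swap (G *ᵥ v) v, hcd, om_swap z (G *ᵥ v)]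
      field_simp
      ring
  obtain ⟨w₁, hw1, hw1n⟩ : ∃ w, W w ∧ w ≠ 0 := by
    by_contra hne
    push Not at hne
    let f : (Fin 2 ⊕ Fin 2 → F) →ₗ[F] F × F :=
      { toFun := fun w => (om v w, om (G *ᵥ v) w)
        map_add' := fun a b => by simp [om_add_right]
        map_smul' := fun a b => by simp [om_smul_right] }
    have := LinearMap.finrank_le_finrank_of_injective (f := f) ((injective_iff_map_eq_zero f).2 fun w hw =>
      hne w ⟨(Prod.ext_iff.1 hw).1, (Prod.ext_iff.1 hw).2⟩)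
    simp at this
  obtain ⟨z, hz⟩ : ∃ z, om w₁ z = 1 := by
    by_contra hne
    push Not at hne
    refine hw1n (om_nd fun y => ?_)
    by_contra h0
    exact hne ((om w₁ y)⁻¹ • y) (by rw [om_smul_right, inv_mul_cancel₀ h0])
  obtain ⟨w₂, hw2d⟩ : ∃ w, w = π z := ⟨_, rfl⟩
  have hw2 : W w₂ := hw2d ▸ hπ z
  have h12 : om w₁ w₂ = 1 := by
    rw [hw2d]
    simp only [π, om_sub_right, om_smul_right, hz, om_swap w₁ v, hw1.1, om_swap w₁ (G *ᵥ v), hw1.2]
    ring
  obtain ⟨l₁, hl1⟩ := heig w₁ hw1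
  obtain ⟨l₂, hl2⟩ := heig w₂ hw2
  obtain ⟨l, hl⟩ := heig (w₁ + w₂) ⟨by rw [om_add_right, hw1.1, hw2.1, add_zero],
    by rw [om_add_right, hw1.2, hw2.2, add_zero]⟩
  rw [mulVec_add, hl1, hl2] at hl
  have e1 : l₂ = l := by
    have := congrArg (om w₁) hl
    simp only [om_add_right, om_smul_right, om_self, h12] at this
    linear_combination this
  have e2 : l₁ = l := by
    have := congrArg (om w₂) hl
    simp only [om_add_right, om_smul_right, om_self, om_swap w₂ w₁, h12] at this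
    linear_combination -this
  rw [e2] at hl1
  rw [e1] at hl2
  have hll : l * l = 1 := by
    have := hp w₁ w₂
    rw [hl1, hl2, om_smul_left, om_smul_right, h12, mul_one] at this
    exact this
  obtain ⟨t, ht⟩ : ∃ t, G *ᵥ G *ᵥ v = t • (G *ᵥ v) - v := by
    refine ⟨om v (G *ᵥ G *ᵥ v) / c, sub_eq_zero.1 (om_nd fun y => ?_)⟩
    obtain ⟨x, hx⟩ := hsurj y
    -- test against `v`, `G v` and `W`
    have hvv : om (G *ᵥ G *ᵥ v) (G *ᵥ v) = -c := by rw [hp, om_swap, hcd]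
    have hWy : om (G *ᵥ G *ᵥ v) (π y) = 0 := by
      obtain ⟨m, hm⟩ := heig _ (hπ y)
      by_cases hm0 : m = 0
      · rw [hm0, zero_smul] at hm
        rw [hinj (π y) 0 (by rw [hm, mulVec_zero])]
        simp [om]
      · have := hp (G *ᵥ v) (π y)
        rw [hm, om_smul_right, (hπ y).2] at this
        exact (mul_eq_zero.1 this).resolve_left hm0
    have hdec : y = π y + (om y (G *ᵥ v) / c) • v + (om v y / c) • (G *ᵥ v) := by simp only [π]; abel
    have hWv : om (G *ᵥ v) (π y) = 0 ∧ om v (π y) = 0 := ⟨(hπ y).2, (hπ y).1⟩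
    rw [hdec, om_sub_left, om_sub_left, om_smul_left]
    simp only [om_add_right, om_smul_right, hvv, hWy, hWv.1, hWv.2, om_self, hcd, om_swap (G *ᵥ v) v,
      om_swap (G *ᵥ G *ᵥ v) v]
    field_simp
    ring
  by_cases htl : t = 2 * l
  · obtain ⟨r, hr⟩ : ∃ r, r = G *ᵥ v - l • v := ⟨_, rfl⟩
    right
    refine ⟨l, hll, w₁, r, ?_, fun k hk => ?_, fun k hk => ?_, hl1, ?_⟩
    · rw [hr, om_sub_right, om_smul_right, om_swap w₁ (G *ᵥ v), hw1.2, om_swap w₁ v, hw1.1]; ring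
    · have := congrArg (om v) hk
      rw [hr, om_sub_right, om_smul_right, om_smul_right, hcd, om_self, hw1.1] at this
      exact hc (by linear_combination this)
    · have := congrArg (fun u => om u w₂) hk
      simp only [h12, hr, om_smul_left, om_sub_left, hw2.1, hw2.2] at this
      exact one_ne_zero (this.trans (by ring))
    · rw [hr, mulVec_sub, mulVec_smul, ht, htl, smul_sub, smul_smul, hll, one_smul, two_mul, add_smul]
      abel
  · left
    have q1 : om v w₁ = 0 := hw1.1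
    have q2 : om v w₂ = 0 := hw2.1
    have q3 : om (G *ᵥ v) w₁ = 0 := hw1.2
    have q4 : om (G *ᵥ v) w₂ = 0 := hw2.2
    refine ⟨v + w₁, G *ᵥ v - c • w₂, ?_, ?_⟩
    · simp only [om_add_left, om_sub_right, om_smul_right, hcd, q2, h12, om_swap w₁ (G *ᵥ v), q3]
      ring
    · simp only [mulVec_add, mulVec_sub, mulVec_smul, hl1, hl2, ht, om_add_left, om_add_right, om_sub_left,
        om_sub_right, om_smul_left, om_smul_right, om_self, hcd, q1, q2, q3, q4, h12, om_swap w₁ (G *ᵥ v),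
        om_swap w₂ (G *ᵥ v), om_swap w₁ v, om_swap w₂ v, om_swap w₂ w₁, om_swap (G *ᵥ v) v]
      intro h0
      refine htl ?_
      have h5 : c * c * (1 - t * l + l * l) = 0 := by linear_combination h0
      have h6 := (mul_eq_zero.1 h5).resolve_left (mul_ne_zero hc hc)
      linear_combination (-l) * h6 + (l - t) * hll

/-- A scalar `±1` as a symplectic matrix. -/
def scal (ε : F) (hε : ε * ε = 1) : Matrix.symplecticGroup (Fin 2) F :=
  ⟨ε • 1, SymplecticGroup.mem_iff.2 (by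
    rw [transpose_smul, transpose_one, Matrix.smul_mul, Matrix.one_mul, Matrix.smul_mul, Matrix.mul_smul,
      Matrix.mul_one, smul_smul, hε, one_smul])⟩

theorem scal_mem_center (ε : F) (hε : ε * ε = 1) : scal ε hε ∈ Subgroup.center (Matrix.symplecticGroup (Fin 2) F) :=
  Subgroup.mem_center_iff.2 fun g => Subtype.ext (show g.1 * (ε • (1 : Matrix _ _ F)) = (ε • 1) * g.1 by simp)

/-- Outside the centre some vector is not an eigenvector. -/
theorem exists_moved {g : Matrix.symplecticGroup (Fin 2) F}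
    (hg : g ∉ Subgroup.center (Matrix.symplecticGroup (Fin 2) F)) : ∃ v, ∀ l : F, g.1 *ᵥ v ≠ l • v := by
  by_contra h
  push Not at h
  have hl : ∀ i, ∃ l, g.1 *ᵥ Pi.single i 1 = l • Pi.single i 1 := fun i => h _
  choose l hl using hl
  have heq : ∀ i k, l i = l k := by
    intro i k
    by_cases hik : i = k
    · rw [hik]
    obtain ⟨m, hm⟩ := h (Pi.single i 1 + Pi.single k 1)
    rw [mulVec_add, hl, hl] at hm
    have e1 := congrFun hm i
    have e2 := congrFun hm k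
    simp [Ne.symm hik, hik] at e1 e2
    rw [e1, e2]
  refine hg (Subgroup.mem_center_iff.2 fun x => Subtype.ext ?_)
  have hsc : g.1 = l (.inl 0) • 1 := by
    ext i k
    have := congrFun (hl k) i
    rw [mulVec_single_one, Matrix.col_apply, heq k (.inl 0)] at this
    simp [this, Matrix.one_apply, Pi.single_apply]
  show x.1 * g.1 = g.1 * x.1
  rw [hsc]
  simp

theorem cover {a b : F} (he : Ell a b) {B : GL (Fin 2) F} (hB : B.1 = comp a b)
    (g : Matrix.symplecticGroup (Fin 2) F) (hg : g ∉ Subgroup.center (Matrix.symplecticGroup (Fin 2) F)) :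
    ∃ z ∈ Subgroup.center (Matrix.symplecticGroup (Fin 2) F), ∃ u v,
      z * g = (u * dia B * u⁻¹) * (v * dia B * v⁻¹) := by
  have hb := he.ne_zero
  have hback : ∀ (h k : Matrix.symplecticGroup (Fin 2) F), (∃ u v, k = (u * dia B * u⁻¹) * (v * dia B * v⁻¹)) →
      ∃ u v, h * k * h⁻¹ = (u * dia B * u⁻¹) * (v * dia B * v⁻¹) := by
    rintro h k ⟨u, v, rfl⟩
    exact ⟨h * u, h * v, by group⟩
  rcases exists_plane g (exists_moved hg) with ⟨u₁, u₂, ho, hd⟩ | ⟨ε, hε, u₁, u₂, ho, hi1, hi2, he1, he2⟩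
  · refine ⟨1, one_mem _, ?_⟩
    rw [one_mul]
    obtain ⟨h, hc1, hc2⟩ := exists_basis (u₁ := u₁) (u₂ := u₂)
      (fun l hl => hd (by simp only [hl, mulVec_smul, om_smul_left, om_smul_right]; ring))
      (fun l hl => hd (by simp only [hl, mulVec_smul, om_smul_left, om_smul_right]; ring)) ho
    obtain ⟨k, hk⟩ : ∃ k, h⁻¹ * g * h = k := ⟨_, rfl⟩
    have hblock := conj_block g h
    rw [hk] at hblock
    obtain ⟨A, P, C, D, hm⟩ : ∃ A P C D, k.1 = fromBlocks A P C D :=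
      ⟨_, _, _, _, (fromBlocks_toBlocks k.1).symm⟩
    have hC : C.det ≠ 0 := by
      have e00 := hblock 0 0
      have e01 := hblock 0 1
      have e10 := hblock 1 0
      have e11 := hblock 1 1
      rw [hm] at e00 e01 e10 e11
      simp only [fromBlocks_apply₂₁, hc1, hc2] at e00 e01 e10 e11
      rw [det_fin_two, e00, e01, e10, e11]
      exact hd
    obtain ⟨X, Y, hX, hY, hXY⟩ := exists_pair he (C⁻¹ * !![0, 1; -1, 0])
    let X' : GL (Fin 2) F := Matrix.GeneralLinearGroup.mkOfDetNeZero X (by rw [hX.2]; exact hb)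
    let Y' : GL (Fin 2) F := Matrix.GeneralLinearGroup.mkOfDetNeZero Y (by rw [hY.2]; exact one_div_ne_zero hb)
    have hCu : IsUnit C.det := Ne.isUnit hC
    have hm' := SymplecticGroup.mem_iff'.1 k.2
    rw [hm, J, fromBlocks_transpose, fromBlocks_multiply, fromBlocks_multiply] at hm'
    simp only [Matrix.mul_zero, Matrix.mul_one, Matrix.mul_neg, add_zero, zero_add, Matrix.neg_mul] at hm'
    have q1 : Cᵀ * A = Aᵀ * C := add_neg_eq_zero.1 (fromBlocks_inj.1 hm').1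
    obtain ⟨M, hM⟩ : ∃ M, X * Y * C⁻¹ = M := ⟨_, rfl⟩
    have hMs : Mᵀ = M := by
      rw [← Matrix.mul_assoc, hM, trace_fin_two] at hXY
      simp [Matrix.mul_apply, Fin.sum_univ_two] at hXY
      ext i j
      fin_cases i <;> fin_cases j <;> simp
      · linear_combination hXY
      · linear_combination -hXY
    have hAC : (A * C⁻¹)ᵀ = A * C⁻¹ := by
      rw [transpose_mul, transpose_nonsing_inv]
      calc (Cᵀ)⁻¹ * Aᵀ = (Cᵀ)⁻¹ * (Aᵀ * C) * C⁻¹ := by
            rw [Matrix.mul_assoc, Matrix.mul_assoc, Matrix.mul_nonsing_inv _ hCu, Matrix.mul_one]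
        _ = _ := by
            rw [← q1, ← Matrix.mul_assoc, Matrix.nonsing_inv_mul _ (by rwa [det_transpose]), Matrix.one_mul]
    have hS : (M - A * C⁻¹)ᵀ = M - A * C⁻¹ := by rw [transpose_sub, hMs, hAC]
    have hS' : (-(M - A * C⁻¹))ᵀ = -(M - A * C⁻¹) := by rw [transpose_neg, hS]
    obtain ⟨u, v, huv⟩ := cover_block he hB (upp _ hS * k * upp _ hS') X' Y' hX hY (by
      show (fromBlocks _ _ _ _ * k.1 * fromBlocks _ _ _ _).toBlocks₁₁ = X * Y
      rw [hm, fromBlocks_multiply, fromBlocks_multiply, toBlocks_fromBlocks₁₁]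
      simp only [Matrix.one_mul, Matrix.zero_mul, Matrix.mul_zero, Matrix.mul_one, add_zero, Matrix.sub_mul]
      rw [Matrix.mul_assoc A, Matrix.nonsing_inv_mul _ hCu, Matrix.mul_one, ← hM,
        Matrix.mul_assoc (X * Y), Matrix.nonsing_inv_mul _ hCu, Matrix.mul_one]
      abel)
    have hinv : upp _ hS' = (upp _ hS)⁻¹ := eq_inv_of_mul_eq_one_left (Subtype.ext (by
      show fromBlocks _ _ _ _ * fromBlocks _ _ _ _ = 1
      simp [fromBlocks_multiply]))
    rw [hinv] at huv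
    have := hback (h * (upp _ hS)⁻¹) _ ⟨u, v, huv⟩
    rw [show h * (upp _ hS)⁻¹ * (upp _ hS * k * (upp _ hS)⁻¹) * (h * (upp _ hS)⁻¹)⁻¹ = g by
      rw [← hk]; group] at this
    exact this
  · refine ⟨scal ε hε, scal_mem_center ε hε, ?_⟩
    obtain ⟨h, hc1, hc2⟩ := exists_basis hi1 hi2 ho
    obtain ⟨k, hk⟩ : ∃ k, h⁻¹ * (scal ε hε * g) * h = k := ⟨_, rfl⟩
    have hA : k.1.toBlocks₁₁ = B.1 * (B⁻¹).1 := by
      rw [Units.mul_inv]
      ext i j
      have hcol : ∀ j : Fin 2, (scal ε hε * g).1 *ᵥ (fun t => h.1 t (.inl j)) = fun t => h.1 t (.inl j) := by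
        intro j
        show ((ε • 1) * g.1) *ᵥ _ = _
        rw [Matrix.smul_mul, Matrix.one_mul, smul_mulVec]
        fin_cases j
        · show ε • g.1 *ᵥ (fun t => h.1 t (.inl 0)) = fun t => h.1 t (.inl 0)
          rw [hc1, he1, smul_smul, hε, one_smul]
        · show ε • g.1 *ᵥ (fun t => h.1 t (.inl 1)) = fun t => h.1 t (.inl 1)
          rw [hc2, he2, smul_smul, hε, one_smul]
      have hone : (h⁻¹ * h).1 (.inl i) (.inl j) = (1 : Matrix (Fin 2) (Fin 2) F) i j := by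
        rw [inv_mul_cancel]; simp [Matrix.one_apply]
      rw [← hk, ← hone, mul_assoc]
      show ((h⁻¹).1 * ((scal ε hε * g).1 * h.1)) (.inl i) (.inl j) = ((h⁻¹).1 * h.1) (.inl i) (.inl j)
      rw [Matrix.mul_apply, Matrix.mul_apply]
      exact Finset.sum_congr rfl fun t _ => congrArg ((h⁻¹).1 (.inl i) t * ·) (congrFun (hcol j) t)
    have := hback h k (cover_block he hB k B B⁻¹ (hB ▸ comp_inCls a b)
      (by rw [Matrix.coe_units_inv]; exact inCls_inv hb (hB ▸ comp_inCls a b)) hA)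
    rw [show h * k * h⁻¹ = scal ε hε * g by rw [← hk]; group] at this
    exact this

theorem comp_pow {a b : F} (he : Ell a b) : comp a b ^ (Fintype.card F ^ 2 - 1) = 1 := by
  obtain ⟨f, hf⟩ : ∃ f : Polynomial F, f = Polynomial.X ^ 2 + Polynomial.C (-a) * Polynomial.X + Polynomial.C b :=
    ⟨_, rfl⟩
  have hdeg : f.natDegree = 2 := by rw [hf]; compute_degree!
  have hm : f.Monic := by rw [hf]; monicity!
  have hirr : Irreducible f := by
    refine (hm.irreducible_iff_roots_eq_zero_of_degree_le_three (by omega) (by omega)).2 ?_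
    refine Multiset.eq_zero_of_forall_notMem fun r hr => ?_
    rw [Polynomial.mem_roots hm.ne_zero, Polynomial.IsRoot, hf] at hr
    simp at hr
    exact he.2 r (by linear_combination hr)
  haveI : Fact (Irreducible f) := ⟨hirr⟩
  haveI := hm.finite_adjoinRoot
  haveI : Finite (AdjoinRoot f) := Module.finite_of_finite F
  haveI := Fintype.ofFinite (AdjoinRoot f)
  have hc : Fintype.card (AdjoinRoot f) = Fintype.card F ^ 2 := by
    rw [Module.card_eq_pow_finrank (K := F), (AdjoinRoot.powerBasis' hm).finrank, AdjoinRoot.powerBasis'_dim, hdeg]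
  have hr : AdjoinRoot.root f ≠ 0 := by
    intro h0
    have h1 := AdjoinRoot.eval₂_root f
    simp [hf, Polynomial.eval₂_add, h0] at h1
    exact he.ne_zero ((map_eq_zero (AdjoinRoot.of f)).1 (by simpa using h1))
  have h1 := FiniteField.pow_card_sub_one_eq_one (AdjoinRoot.root f) hr
  rw [hc] at h1
  have h2 : f ∣ Polynomial.X ^ (Fintype.card F ^ 2 - 1) - 1 := by
    rw [← AdjoinRoot.mk_eq_zero, map_sub, map_pow, AdjoinRoot.mk_X, map_one, h1, sub_self]
  obtain ⟨k, hk⟩ := h2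
  have h0 : Polynomial.aeval (comp a b) f = 0 := by
    ext i j
    fin_cases i <;> fin_cases j <;>
      simp [hf, comp, sq, Matrix.mul_apply, Fin.sum_univ_two, Algebra.algebraMap_eq_smul_one, Matrix.one_apply] <;> ring
  have h3 := congrArg (Polynomial.aeval (comp a b)) hk
  rw [map_mul, h0, zero_mul, map_sub, map_pow, Polynomial.aeval_X, map_one, sub_eq_zero] at h3
  exact h3

end Sp

end Cfsg.Agent.ThompsonSp4
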